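import Groth.Agent.CAlg99.Decay
import Groth.Agent.Adic.Basic
import Mathlib.RingTheory.Flat.EquationalCriterion
import Mathlib.RingTheory.LocalRing.ResidueField.Basic
import Mathlib.LinearAlgebra.Matrix.ToLin
import Mathlib.LinearAlgebra.Matrix.NonsingularInverse
import Mathlib.LinearAlgebra.Basis.VectorSpace
import Mathlib.Algebra.Module.Torsion.Basic

/-! Adic bases of complete modules; coefficients of relations in flat modules over local rings. -/

namespace Groth.Agent.CAlg99.AdicBasis

open W4c5adicflatcompl CAlg99.Decay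

variable {A : Type*} [CommRing A] {I : Ideal A} {Z : Type*}
variable {M : Type*} [AddCommGroup M] [Module A M]

/-- In a flat module over a local ring, a family independent modulo `m` detects every ideal. -/
theorem coeff_mem_of_flat [IsLocalRing A] [IsNoetherianRing A] [Module.Flat A M] {ι : Type*}
    [Fintype ι] (v : ι → M)
    (hv : ∀ c : ι → A, ∑ i, c i • v i ∈ (IsLocalRing.maximalIdeal A • ⊤ : Submodule A M) →
      ∀ i, c i ∈ IsLocalRing.maximalIdeal A)
    (J : Ideal A) (c : ι → A) (hc : ∑ i, c i • v i ∈ (J • ⊤ : Submodule A M)) (i : ι) : c i ∈ J := by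
  classical
  obtain ⟨r, a, ha⟩ := Submodule.fg_iff_exists_fin_generating_family.mp (IsNoetherian.noetherian J)
  obtain ⟨y, -, hy⟩ := exists_sum_smul a J ha.symm ⊤ hc
  have hrel : ∑ i, Sum.elim c (fun j => -a j) i • Sum.elim v y i = 0 := by
    simp [Fintype.sum_sum_type, hy]
  obtain ⟨k, b, w, hb, hb'⟩ := Module.Flat.isTrivialRelation_of_sum_smul_eq_zero hrel
  let B : Matrix ι (Fin k) A := fun i l => b (Sum.inl i) l
  have hcB : ∀ l, Matrix.vecMul c B l ∈ J := by
    intro l
    have h := hb' l
    rw [Fintype.sum_sum_type] at h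
    simp only [Sum.elim_inl, Sum.elim_inr, neg_mul, Finset.sum_neg_distrib, add_neg_eq_zero] at h
    show ∑ i, c i * b (Sum.inl i) l ∈ J
    rw [h, ← ha]
    exact Ideal.sum_mem _ fun j _ => Ideal.mul_mem_right _ _ (Submodule.subset_span ⟨j, rfl⟩)
  set q := IsLocalRing.residue A with hq
  have hinj : Function.Injective (Matrix.vecMulLinear (B.map q)) := by
    rw [injective_iff_map_eq_zero]
    intro d hd
    choose d' hd' using fun i => IsLocalRing.residue_surjective (d i)
    have hm := hv d' ?_
    · funext i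
      rw [← hd' i]
      exact (IsLocalRing.residue_eq_zero_iff _).mpr (hm i)
    have hvb : ∀ i, v i = ∑ l, B i l • w l := fun i => hb (Sum.inl i)
    simp only [hvb, Finset.smul_sum, smul_smul]
    rw [Finset.sum_comm]
    refine sum_mem fun l _ => ?_
    rw [← Finset.sum_smul]
    refine Submodule.smul_mem_smul ?_ trivial
    rw [← IsLocalRing.residue_eq_zero_iff]
    have := congrFun hd l
    simpa [Matrix.vecMul, dotProduct, hd', map_sum, hq] using this
  obtain ⟨g, hg⟩ := LinearMap.exists_leftInverse_of_injective _ (LinearMap.ker_eq_bot.mpr hinj)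
  let E₀ : Matrix (Fin k) ι (IsLocalRing.ResidueField A) := fun l i => g (Pi.single l 1) i
  have hE₀ : B.map q * E₀ = 1 := by
    ext i i'
    have h := congrFun (LinearMap.congr_fun hg (Pi.single i 1)) i'
    simp only [LinearMap.comp_apply, Matrix.vecMulLinear_apply, Matrix.single_one_vecMul,
      LinearMap.id_apply] at h
    rw [pi_eq_sum_univ' ((B.map q).row i), map_sum, Finset.sum_apply] at h
    simpa [Matrix.mul_apply, E₀, Matrix.one_apply, Pi.single_apply, eq_comm] using h
  choose E hE using fun l i => IsLocalRing.residue_surjective (E₀ l i)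
  have hdet : IsUnit (B * Matrix.of E).det := by
    rw [← isUnit_map_iff q, RingHom.map_det]
    have : q.mapMatrix (B * Matrix.of E) = 1 := by
      simp only [RingHom.mapMatrix_apply]
      rw [Matrix.map_mul, ← hE₀]
      congr 1
      ext l i
      exact hE l i
    simp [this]
  have hc1 : c = Matrix.vecMul (Matrix.vecMul (Matrix.vecMul c B) (Matrix.of E)) (B * Matrix.of E)⁻¹ := by
    rw [Matrix.vecMul_vecMul c B, Matrix.vecMul_vecMul, Matrix.mul_nonsing_inv _ hdet, Matrix.vecMul_one]
  rw [hc1]
  refine Ideal.sum_mem _ fun j _ => Ideal.mul_mem_right _ _ ?_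
  show ∑ l, Matrix.vecMul c B l * Matrix.of E l j ∈ J
  exact Ideal.sum_mem _ fun l _ => Ideal.mul_mem_right _ _ (hcB l)

/-- A family which spans modulo `m` and is independent modulo `m`. -/
theorem exists_family_mod_maximal [IsLocalRing A] :
    ∃ (Z : Set (M ⧸ (IsLocalRing.maximalIdeal A • ⊤ : Submodule A M))) (v : Z → M),
      Submodule.span A (Set.range v) ⊔ IsLocalRing.maximalIdeal A • ⊤ = ⊤ ∧
      ∀ (S : Finset Z) (c : Z → A), ∑ z ∈ S, c z • v z ∈ (IsLocalRing.maximalIdeal A • ⊤ : Submodule A M) →
        ∀ z ∈ S, c z ∈ IsLocalRing.maximalIdeal A := by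
  let m := IsLocalRing.maximalIdeal A
  let _ : Field (A ⧸ m) := Ideal.Quotient.field m
  let W := M ⧸ (m • ⊤ : Submodule A M)
  let b := Module.Basis.ofVectorSpace (A ⧸ m) W
  choose v hv using fun z => Submodule.Quotient.mk_surjective (m • ⊤ : Submodule A M) (b z)
  refine ⟨_, v, ?_, fun S c hc z hz => ?_⟩
  · apply Submodule.eq_top_iff'.mpr
    intro x
    have hsp : Submodule.span A (Set.range b) = ⊤ := by
      have h := b.span_eq
      rw [← Submodule.restrictScalars_span A (A ⧸ m) Ideal.Quotient.mk_surjective] at *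
      simpa using congrArg (Submodule.restrictScalars A) h
    have : Submodule.map (Submodule.mkQ (m • ⊤ : Submodule A M)) (Submodule.span A (Set.range v)) = ⊤ := by
      rw [Submodule.map_span, ← hsp, ← Set.range_comp]
      congr 1
      exact congrArg Set.range (funext hv)
    obtain ⟨y, hy, hyx⟩ : Submodule.mkQ _ x ∈ Submodule.map (Submodule.mkQ (m • ⊤ : Submodule A M))
        (Submodule.span A (Set.range v)) := this ▸ trivial
    rw [← add_sub_cancel y x]
    refine Submodule.add_mem_sup hy ?_
    rw [← Submodule.Quotient.eq]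
    exact hyx.symm
  · rw [← Ideal.Quotient.eq_zero_iff_mem]
    refine linearIndependent_iff'.mp b.linearIndependent S (fun z => Ideal.Quotient.mk m (c z)) ?_ z hz
    rw [← (Submodule.Quotient.mk_eq_zero (m • ⊤ : Submodule A M)).mpr hc, ← Submodule.mkQ_apply,
      map_sum]
    exact Finset.sum_congr rfl fun i _ => by rw [map_smul, Submodule.mkQ_apply, hv]; rfl

/-- A complete module with an adic basis is a module of decaying functions. -/
theorem nonempty_equiv (hI : I.FG) [IsAdicComplete I A] [IsAdicComplete I M] (v : Z → M)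
    (h1 : Submodule.span A (Set.range v) ⊔ I • ⊤ = ⊤)
    (h2 : ∀ (n : ℕ) (S : Finset Z) (c : Z → A),
      ∑ z ∈ S, c z • v z ∈ (I ^ n • ⊤ : Submodule A M) → ∀ z ∈ S, c z ∈ I ^ n) :
    Nonempty (decaying I Z A ≃ₗ[A] M) := by
  classical
  let φ : decaying I Z A →ₗ[A] M := sumMap fun z => LinearMap.toSpanSingleton A M (v z)
  have := isAdicComplete (I := I) (Z := Z) (M := A) hI
  refine ⟨LinearEquiv.ofBijective φ ⟨(injective_iff_map_eq_zero φ).mpr fun g hg => ?_, ?_⟩⟩
  · refine Subtype.ext (funext fun z => ?_)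
    refine eq_zero_of_forall_mem (I := I) fun n => ?_
    rw [smul_eq_mul, Ideal.mul_top]
    obtain ⟨S, hS, hS'⟩ := isAdicSum_sumMap (fun z => LinearMap.toSpanSingleton A M (v z)) g n
    have h0 : sumMap (fun z => LinearMap.toSpanSingleton A M (v z)) g = 0 := hg
    rw [h0, zero_sub, neg_mem_iff] at hS'
    simp only [LinearMap.toSpanSingleton_apply] at hS hS'
    have hS2 : ∑ z' ∈ insert z S, (g : Z → A) z' • v z' ∈ (I ^ n • ⊤ : Submodule A M) := by
      by_cases hz : z ∈ S
      · rwa [Finset.insert_eq_of_mem hz]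
      · rw [Finset.sum_insert hz]; exact add_mem (hS z hz) hS'
    exact h2 n _ _ hS2 z (Finset.mem_insert_self _ _)
  · refine surjective_of_mkQ_comp_surjective (I := I) ?_
    intro y
    obtain ⟨x, rfl⟩ := Submodule.Quotient.mk_surjective _ y
    obtain ⟨a, ha, b, hb, hab⟩ := Submodule.mem_sup.mp (h1 ▸ Submodule.mem_top : x ∈ _)
    have hle : Submodule.span A (Set.range v) ≤ LinearMap.range φ := by
      rw [Submodule.span_le]
      rintro _ ⟨z, rfl⟩
      exact ⟨single I z 1, by simp [φ, sumMap_single]⟩
    obtain ⟨g, rfl⟩ := hle ha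
    refine ⟨g, ?_⟩
    rw [LinearMap.comp_apply, Submodule.mkQ_apply, Submodule.Quotient.eq, ← hab]
    simp [hb]

/-- Changing coefficients of decaying functions along a linear equivalence. -/
def congrValues {N N' : Type*} [AddCommGroup N] [Module A N] [AddCommGroup N'] [Module A N']
    (e : N ≃ₗ[A] N') : decaying I Z N ≃ₗ[A] decaying I Z N' where
  toFun g := ⟨_, family_mem_decaying (fun _ => e.toLinearMap) g⟩
  map_add' f g := Subtype.ext (funext fun z => by simp)
  map_smul' c f := Subtype.ext (funext fun z => by simp)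
  invFun g := ⟨_, family_mem_decaying (fun _ => e.symm.toLinearMap) g⟩
  left_inv g := Subtype.ext (funext fun z => by simp)
  right_inv g := Subtype.ext (funext fun z => by simp)

theorem isAdicComplete_of_equiv {N : Type*} [AddCommGroup N] [Module A N] (e : M ≃ₗ[A] N)
    [IsAdicComplete I M] : IsAdicComplete I N :=
  { toIsPrecomplete := Adic.isPrecomplete_of_surjective I e.toLinearMap e.surjective
    toIsHausdorff := ⟨fun x hx => e.symm.injective (by
      rw [map_zero]
      exact eq_zero_of_forall_mem (I := I) fun n =>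
        map_mem_pow_smul e.symm.toLinearMap (SModEq.zero.mp (hx n)))⟩ }

end Groth.Agent.CAlg99.AdicBasis
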