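import Groth.Agent.RegLoc.Basic
import Mathlib.RingTheory.Ideal.Cotangent
import Mathlib.Algebra.Module.SpanRankOperations
import Mathlib.LinearAlgebra.Dimension.Finrank
import Mathlib.LinearAlgebra.Basis.VectorSpace

/-!
Ideals whose generators are independent in the cotangent space; fixed ideals of finite order
automorphisms of local rings.
-/

namespace Groth.Agent.CAlg99.CotGen

open IsLocalRing

variable {A : Type*} [CommRing A] [IsLocalRing A] [IsNoetherianRing A]

theorem exists_sub_mem_sq {ι : Type*} [Fintype ι] (f : ι → maximalIdeal A) (x : maximalIdeal A)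
    (hx : (maximalIdeal A).toCotangent x ∈
      Submodule.span (ResidueField A) (Set.range fun i => (maximalIdeal A).toCotangent (f i))) :
    ∃ c : ι → A, (x : A) - ∑ i, c i * (f i : A) ∈ maximalIdeal A ^ 2 := by
  obtain ⟨d, hd⟩ := (Submodule.mem_span_range_iff_exists_fun _).mp hx
  choose c hc using fun i => residue_surjective (d i)
  refine ⟨c, ?_⟩
  have h : (maximalIdeal A).toCotangent x = (maximalIdeal A).toCotangent (∑ i, c i • f i) := by
    rw [← hd, map_sum]
    refine Finset.sum_congr rfl fun i _ => ?_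
    rw [map_smul, ← hc i]
    exact algebraMap_smul (ResidueField A) (c i) ((maximalIdeal A).toCotangent (f i))
  simpa using (Ideal.toCotangent_eq (I := maximalIdeal A)).mp h

/-- If `J ∩ m² ≤ m J` then `J` is generated by elements independent in `m/m²`. -/
theorem exists_indep_generators (J : Ideal A) (hJ : J ≤ maximalIdeal A)
    (h : J ⊓ maximalIdeal A ^ 2 ≤ maximalIdeal A * J) :
    ∃ (r : ℕ) (f : Fin r → maximalIdeal A), Ideal.span (Set.range fun i => (f i : A)) = J ∧
      LinearIndependent (ResidueField A) (fun i => (maximalIdeal A).toCotangent (f i)) := by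
  classical
  set S : Set (CotangentSpace A) := (maximalIdeal A).toCotangent '' {x | (x : A) ∈ J} with hS
  obtain ⟨b, hbS, hspan, hli⟩ := exists_linearIndependent (ResidueField A) S
  have hfin : b.Finite := hli.setFinite
  let := hfin.fintype
  let e := (Fintype.equivFin b).symm
  choose f hf hfb using fun i : b => hbS i.2
  refine ⟨Fintype.card b, fun i => f (e i), ?_, ?_⟩
  · refine le_antisymm (Ideal.span_le.mpr ?_) ?_
    · rintro _ ⟨i, rfl⟩
      exact hf (e i)
    · apply Submodule.le_of_le_smul_of_le_jacobson_bot (IsNoetherian.noetherian J)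
        (maximalIdeal_le_jacobson _)
      intro x hx
      have hxS : (maximalIdeal A).toCotangent ⟨x, hJ hx⟩ ∈
          Submodule.span (ResidueField A) (Set.range fun i => (maximalIdeal A).toCotangent (f i)) := by
        have hr : (Set.range fun i => (maximalIdeal A).toCotangent (f i)) = b := by
          simp only [hfb, Subtype.range_coe]
        rw [hr, hspan]
        exact Submodule.subset_span ⟨⟨x, hJ hx⟩, hx, rfl⟩
      obtain ⟨c, hc⟩ := exists_sub_mem_sq f ⟨x, hJ hx⟩ hxS
      have hsum : ∑ i, c i * (f i : A) ∈ J := Ideal.sum_mem _ fun i _ => J.mul_mem_left _ (hf i)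
      refine Submodule.mem_sup.mpr ⟨∑ i, c i * (f i : A), ?_, x - ∑ i, c i * (f i : A),
        h ⟨J.sub_mem hx hsum, hc⟩, add_sub_cancel _ _⟩
      exact Ideal.sum_mem _ fun i _ => Ideal.mul_mem_left _ _
        (Ideal.subset_span ⟨e.symm i, by simp⟩)
  · have : (fun i => (maximalIdeal A).toCotangent (f (e i))) = Subtype.val ∘ e :=
      funext fun i => hfb (e i)
    rw [this]
    exact LinearIndependent.comp hli e e.injective

/-- In a regular local ring the quotient by elements independent in `m/m²` is regular. -/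
theorem isRegularLocalRing_quotient_of_indep {R : Type*} [CommRing R] [IsRegularLocalRing R] {r : ℕ}
    (f : Fin r → maximalIdeal R)
    (hf : LinearIndependent (ResidueField R) (fun i => (maximalIdeal R).toCotangent (f i))) :
    IsRegularLocalRing (R ⧸ Ideal.span (Set.range fun i => (f i : R))) := by
  classical
  obtain ⟨n, hn, -⟩ := RegLoc.exists_natCast_eq_ringKrullDim R
  have hdim : Module.finrank (ResidueField R) (CotangentSpace R) = n := by
    rw [← spanFinrank_maximalIdeal_eq_finrank_cotangentSpace, RegLoc.spanFinrank_eq_dim hn]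
  set W := Submodule.span (ResidueField R) (Set.range fun i => (maximalIdeal R).toCotangent (f i))
    with hW
  obtain ⟨W', hWW'⟩ := Submodule.exists_isCompl W
  have hWr : Module.finrank (ResidueField R) W = r := by
    rw [hW, finrank_span_eq_card hf, Fintype.card_fin]
  have hsum : r + Module.finrank (ResidueField R) W' = n := by
    rw [← hWr, Submodule.finrank_add_eq_of_isCompl hWW', hdim]
  let b := Module.finBasis (ResidueField R) W'
  choose g hg using fun i => (maximalIdeal R).toCotangent_surjective (b i : CotangentSpace R)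
  set I := Ideal.span (Set.range fun i => (f i : R)) with hI
  set J := Ideal.span (Set.range fun i => (g i : R)) with hJ
  have hIJ : I ⊔ J = maximalIdeal R := by
    apply RegLoc.eq_maximalIdeal_of_le_sup_sq
    · refine sup_le (Ideal.span_le.mpr ?_) (Ideal.span_le.mpr ?_)
      · rintro _ ⟨i, rfl⟩; exact (f i).2
      · rintro _ ⟨i, rfl⟩; exact (g i).2
    intro x hx
    have hmem : (maximalIdeal R).toCotangent ⟨x, hx⟩ ∈ Submodule.span (ResidueField R)
        (Set.range fun i => (maximalIdeal R).toCotangent (Sum.elim f g i)) := by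
      have : (Set.range fun i => (maximalIdeal R).toCotangent (Sum.elim f g i)) =
          (Set.range fun i => (maximalIdeal R).toCotangent (f i)) ∪ (Set.range fun i => (b i : CotangentSpace R)) := by
        ext y
        simp [Sum.exists, hg]
      rw [this, Submodule.span_union, ← hW]
      have hb : Submodule.span (ResidueField R) (Set.range fun i => (b i : CotangentSpace R)) = W' := by
        have := congrArg (Submodule.map W'.subtype) b.span_eq
        rw [Submodule.map_span, Submodule.map_subtype_top, ← Set.range_comp] at this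
        exact this
      rw [hb, hWW'.sup_eq_top]
      exact Submodule.mem_top
    obtain ⟨c, hc⟩ := exists_sub_mem_sq (Sum.elim f g) ⟨x, hx⟩ hmem
    refine Submodule.mem_sup.mpr ⟨∑ i, c i * ((Sum.elim f g i : maximalIdeal R) : R), ?_, x - ∑ i, c i * ((Sum.elim f g i : maximalIdeal R) : R), hc, add_sub_cancel _ _⟩
    refine Ideal.sum_mem _ fun i _ => Ideal.mul_mem_left _ _ ?_
    rcases i with i | i
    · exact Ideal.mem_sup_left (Ideal.subset_span ⟨i, rfl⟩)
    · exact Ideal.mem_sup_right (Ideal.subset_span ⟨i, rfl⟩)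
  refine (RegLoc.isRegularLocalRing_quotient_of_sup_eq (a := r)
    (b := Module.finrank (ResidueField R) W') hn hIJ ?_ ?_ hsum.le).1
  · exact (Submodule.spanFinrank_span_le_ncard_of_finite (Set.finite_range _)).trans
      (by rw [← Set.image_univ]; exact (Set.ncard_image_le (Set.finite_univ)).trans (by simp))
  · exact (Submodule.spanFinrank_span_le_ncard_of_finite (Set.finite_range _)).trans
      (by rw [← Set.image_univ]; exact (Set.ncard_image_le (Set.finite_univ)).trans (by simp))

/-! ### finite groups of automorphisms -/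

variable {k : Type*} [Field k] [Algebra k A]

omit [IsNoetherianRing A] in
theorem fixed_inf_sq_le {ι : Type*} [Fintype ι] [Nonempty ι] (σ : ι → A →ₐ[k] A)
    (hres : Function.Surjective (algebraMap k (ResidueField A)))
    (hσm : ∀ i, ∀ a ∈ maximalIdeal A, σ i a ∈ maximalIdeal A)
    (hperm : ∀ g, ∃ π : Equiv.Perm ι, ∀ i a, σ i (σ g a) = σ (π i) a)
    (hcard : (Fintype.card ι : k) ≠ 0) :
    Ideal.span {x : A | ∃ i a, x = σ i a - a} ≤ maximalIdeal A ∧
      Ideal.span {x : A | ∃ i a, x = σ i a - a} ⊓ maximalIdeal A ^ 2 ≤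
        maximalIdeal A * Ideal.span {x : A | ∃ i a, x = σ i a - a} := by
  set S := {x : A | ∃ i a, x = σ i a - a} with hS
  set J := Ideal.span S with hJ
  have hdec : ∀ a : A, ∃ t : k, a - algebraMap k A t ∈ maximalIdeal A := by
    intro a
    obtain ⟨t, ht⟩ := hres (residue A a)
    refine ⟨t, ?_⟩
    rw [← residue_eq_zero_iff, map_sub, ← ht, sub_eq_zero]
    rfl
  have hSm : ∀ x ∈ S, x ∈ maximalIdeal A := by
    rintro _ ⟨i, a, rfl⟩
    obtain ⟨t, ht⟩ := hdec a
    have h1 := Ideal.sub_mem _ (hσm i _ ht) ht
    rwa [map_sub, AlgHom.commutes, sub_sub_sub_cancel_right] at h1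
  have hJm : J ≤ maximalIdeal A := Ideal.span_le.mpr hSm
  refine ⟨hJm, ?_⟩
  -- the averaging map kills every generator
  let E : A →ₗ[k] A := ∑ i, (σ i).toLinearMap
  have hE : ∀ x ∈ S, E x = 0 := by
    rintro _ ⟨g, a, rfl⟩
    obtain ⟨π, hπ⟩ := hperm g
    simp only [E, LinearMap.coe_sum, Finset.sum_apply, AlgHom.toLinearMap_apply, map_sub,
      Finset.sum_sub_distrib, hπ]
    rw [Equiv.sum_comp π (fun i => σ i a), sub_self]
  -- on `m²` the differences lie in `m J`
  have hsq : ∀ i, ∀ w ∈ maximalIdeal A ^ 2, σ i w - w ∈ maximalIdeal A * J := by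
    intro i w hw
    rw [pow_two] at hw
    refine Submodule.smul_induction_on hw (fun a ha b hb => ?_) fun a b ha hb => ?_
    · rw [smul_eq_mul, map_mul,
        show σ i a * σ i b - a * b = σ i b * (σ i a - a) + a * (σ i b - b) by ring]
      exact Ideal.add_mem _ (Ideal.mul_mem_mul (hσm i b hb) (Ideal.subset_span ⟨i, a, rfl⟩))
        (Ideal.mul_mem_mul ha (Ideal.subset_span ⟨i, b, rfl⟩))
    · rw [map_add, add_sub_add_comm]
      exact Ideal.add_mem _ ha hb
  -- `J = k-span S + m J`
  have hJdec : ∀ x ∈ J, ∃ v, x - v ∈ maximalIdeal A * J ∧ E v = 0 := by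
    intro x hx
    refine Submodule.span_induction (fun y hy => ⟨y, by simp, hE y hy⟩) ⟨0, by simp, map_zero E⟩
      (fun y z _ _ hy hz => ?_) (fun c y hy' hy => ?_) hx
    · obtain ⟨v, hv, hv'⟩ := hy; obtain ⟨w, hw, hw'⟩ := hz
      refine ⟨v + w, ?_, by rw [map_add, hv', hw', add_zero]⟩
      rw [add_sub_add_comm]
      exact Ideal.add_mem _ hv hw
    · obtain ⟨v, hv, hv'⟩ := hy
      obtain ⟨t, ht⟩ := hdec c
      refine ⟨t • v, ?_, by rw [map_smul, hv', smul_zero]⟩
      rw [smul_eq_mul, Algebra.smul_def,
        show c * y - algebraMap k A t * v = (c - algebraMap k A t) * y + algebraMap k A t * (y - v) by ring]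
      exact Ideal.add_mem _ (Ideal.mul_mem_mul ht hy') (Ideal.mul_mem_left _ _ hv)
  intro x hx
  obtain ⟨v, hv, hv'⟩ := hJdec x hx.1
  have hv2 : v ∈ maximalIdeal A ^ 2 := by
    have hle : maximalIdeal A * J ≤ maximalIdeal A ^ 2 := by
      rw [pow_two]; exact Ideal.mul_mono_right hJm
    have := Ideal.sub_mem _ hx.2 (hle hv)
    rwa [sub_sub_cancel] at this
  have hn : (Fintype.card ι : k) • v = ∑ i, (v - σ i v) := by
    rw [Finset.sum_sub_distrib, show ∑ i, σ i v = E v by simp [E], hv', sub_zero,
      Finset.sum_const, Finset.card_univ, Nat.cast_smul_eq_nsmul]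
  have hv3 : v ∈ maximalIdeal A * J := by
    have hsum : ∑ i, (v - σ i v) ∈ maximalIdeal A * J := Ideal.sum_mem _ fun i _ => by
      rw [← neg_sub]; exact Submodule.neg_mem _ (hsq i v hv2)
    rw [← hn] at hsum
    have hv' : v = (Fintype.card ι : k)⁻¹ • (Fintype.card ι : k) • v := by
      rw [smul_smul, inv_mul_cancel₀ hcard, one_smul]
    rw [hv']
    exact Submodule.smul_of_tower_mem _ _ hsum
  have := Ideal.add_mem _ hv hv3
  rwa [sub_add_cancel] at this

end Groth.Agent.CAlg99.CotGen
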