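import Mathlib.RingTheory.Regular.RegularSequence
import Mathlib.RingTheory.Ideal.Prime
import Mathlib.RingTheory.Ideal.Maximal
import Mathlib.LinearAlgebra.Matrix.NonsingularInverse
import Mathlib.LinearAlgebra.Matrix.SchurComplement
import Mathlib.LinearAlgebra.Matrix.ToLin
import Mathlib.Data.Matrix.ColumnRowPartitioned
import Mathlib.Tactic.LinearCombination
import Mathlib.Tactic.Module

/-!
The acyclicity lemma for complexes of finite free modules, in elementary form.
-/

set_option autoImplicit false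

universe u

open Matrix

namespace Groth.Agent.CAlg99.Acyclicity

variable {R : Type u} [CommRing R]

/-- All entries in `J`. -/
def InJ (J : Ideal R) {m : ℕ} (v : Fin m → R) : Prop := ∀ k, v k ∈ J

theorem InJ.mulVec {J : Ideal R} {a b : ℕ} (M : Matrix (Fin a) (Fin b) R) {v : Fin b → R}
    (h : InJ J v) : InJ J (M *ᵥ v) :=
  fun k => by
    rw [Matrix.mulVec, dotProduct]
    exact Ideal.sum_mem J fun l _ => J.mul_mem_left _ (h l)

theorem InJ.add {J : Ideal R} {m : ℕ} {v w : Fin m → R} (hv : InJ J v) (hw : InJ J w) : InJ J (v + w) :=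
  fun k => J.add_mem (hv k) (hw k)

theorem InJ.sub {J : Ideal R} {m : ℕ} {v w : Fin m → R} (hv : InJ J v) (hw : InJ J w) : InJ J (v - w) :=
  fun k => J.sub_mem (hv k) (hw k)

theorem InJ.smul {J : Ideal R} {m : ℕ} {v : Fin m → R} (hv : InJ J v) (c : R) : InJ J (c • v) :=
  fun k => J.mul_mem_left c (hv k)

/-- Exactness of a pair of matrices modulo `J`, locally at `p`. -/
def Ex (p J : Ideal R) {a q b : ℕ} (M : Matrix (Fin a) (Fin q) R) (N : Matrix (Fin q) (Fin b) R) : Prop :=
  ∀ v : Fin q → R, InJ J (M *ᵥ v) → ∃ s ∉ p, ∃ w : Fin b → R, InJ J (s • v - N *ᵥ w)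

/-- Complementary unit minors give split exactness. -/
theorem ex_of_minors {p : Ideal R} [p.IsPrime] (J : Ideal R) {a q b r r' : ℕ}
    (M : Matrix (Fin a) (Fin q) R) (N : Matrix (Fin q) (Fin b) R) (hMN : M * N = 0) (hr : r + r' = q)
    (f : Fin r → Fin a) (g : Fin r → Fin q) (f' : Fin r' → Fin q) (g' : Fin r' → Fin b)
    (h : (M.submatrix f g).det ∉ p) (h' : (N.submatrix f' g').det ∉ p) : Ex p J M N := by
  classical
  intro v hv
  let ε : Fin r ⊕ Fin r' ≃ Fin q := finSumFinEquiv.trans (finCongr hr)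
  let E : Matrix (Fin q) (Fin q) R := 1
  let M1 : Matrix (Fin r ⊕ Fin r') (Fin q) R := Matrix.fromRows (M.submatrix f id) (E.submatrix f' id)
  let M2 : Matrix (Fin q) (Fin r ⊕ Fin r') R := Matrix.fromCols (E.submatrix id g) (N.submatrix id g')
  have hprod : M1 * M2 = Matrix.fromBlocks (M.submatrix f g) 0 (E.submatrix f' g) (N.submatrix f' g') := by
    rw [Matrix.fromRows_mul_fromCols]
    congr 1
    · ext i j; simp [Matrix.mul_apply, E, Matrix.one_apply]
    · ext i j
      have := congrFun (congrFun hMN (f i)) (g' j)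
      simpa [Matrix.mul_apply] using this
    · ext i j; simp [Matrix.mul_apply, E, Matrix.one_apply]
    · ext i j; simp [Matrix.mul_apply, E, Matrix.one_apply]
  let S : Matrix (Fin q) (Fin q) R := M1.submatrix ε.symm id
  have hd1 : S.det ∉ p := by
    intro hd
    have hdet : S.det * (M2.submatrix id ε.symm).det = (M.submatrix f g).det * (N.submatrix f' g').det := by
      rw [← Matrix.det_mul, ← Matrix.submatrix_mul _ _ _ id _ Function.bijective_id,
        Matrix.det_submatrix_equiv_self, hprod, Matrix.det_fromBlocks_zero₁₂]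
    have := p.mul_mem_right (M2.submatrix id ε.symm).det hd
    rw [hdet] at this
    exact (‹p.IsPrime›.mem_or_mem this).elim h h'
  let u : Fin r' → R := (N.submatrix f' g').adjugate *ᵥ fun l => v (f' l)
  let P : Matrix (Fin b) (Fin r') R := (1 : Matrix (Fin b) (Fin b) R).submatrix id g'
  let w : Fin b → R := P *ᵥ u
  let d' := (N.submatrix f' g').det
  let z : Fin q → R := d' • v - N *ᵥ w
  have hz' : ∀ l, z (f' l) = 0 := by
    intro l
    have h1 : (N.submatrix f' g') *ᵥ u = d' • fun l => v (f' l) := by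
      simp only [u, Matrix.mulVec_mulVec, Matrix.mul_adjugate, Matrix.smul_mulVec, Matrix.one_mulVec, d']
    have h2 : (N *ᵥ w) (f' l) = ((N.submatrix f' g') *ᵥ u) l := by
      have hNP : N * P = N.submatrix id g' := by
        ext i j; simp [Matrix.mul_apply, P, Matrix.one_apply]
      show (N *ᵥ (P *ᵥ u)) (f' l) = _
      rw [Matrix.mulVec_mulVec, hNP]
      rfl
    simp [z, h2, h1]
  have hMz : InJ J (M *ᵥ z) := by
    have : M *ᵥ z = d' • (M *ᵥ v) := by
      simp only [z, Matrix.mulVec_sub, Matrix.mulVec_smul, Matrix.mulVec_mulVec, hMN, Matrix.zero_mulVec, sub_zero]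
    rw [this]
    exact hv.smul _
  have hSz : InJ J (S *ᵥ z) := by
    intro k
    show (fun j => M1 (ε.symm k) j) ⬝ᵥ z ∈ J
    rcases ε.symm k with i | i
    · exact hMz (f i)
    · have : (fun j => M1 (Sum.inr i) j) ⬝ᵥ z = z (f' i) := by
        simp [M1, E, dotProduct, Matrix.one_apply]
      rw [this, hz']
      exact zero_mem J
  refine ⟨S.det * d', fun hm => (‹p.IsPrime›.mem_or_mem hm).elim hd1 h', S.det • w, ?_⟩
  have h3 : S.adjugate *ᵥ (S *ᵥ z) = (S.det * d') • v - N *ᵥ (S.det • w) := by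
    rw [Matrix.mulVec_mulVec, Matrix.adjugate_mul, Matrix.smul_mulVec, Matrix.one_mulVec,
      Matrix.mulVec_smul]
    simp only [z, smul_sub, smul_smul]
  rw [← h3]
  exact hSz.mulVec _

variable (e : ℕ) {n : ℕ → ℕ} (A : ∀ i, Matrix (Fin (n i)) (Fin (n (i + 1))) R)

/-- The differentials, extended by zero. -/
def F (q : ℕ) : Matrix (Fin (n q)) (Fin (n (q + 1))) R := if q < e then A q else 0

theorem F_of_lt {q : ℕ} (h : q < e) : F e A q = A q := if_pos h

theorem F_of_le {q : ℕ} (h : e ≤ q) : F e A q = 0 := if_neg (not_lt.mpr h)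

theorem F_mul_F (hA : ∀ i, i + 2 ≤ e → A i * A (i + 1) = 0) (q : ℕ) : F e A q * F e A (q + 1) = 0 := by
  by_cases h : q + 1 < e
  · rw [F_of_lt e A (by omega), F_of_lt e A h]
    exact hA q (by omega)
  · rw [F_of_le e A (not_lt.mp h)]
    exact Matrix.mul_zero _

/-- The regularity needed: each element is a nonzerodivisor modulo the previous ones. -/
theorem regular_take {rs : List R} (hreg : RingTheory.Sequence.IsWeaklyRegular R rs) {i : ℕ} (hi : i < rs.length)
    {y : R} (h : rs[i] * y ∈ Ideal.ofList (rs.take i)) : y ∈ Ideal.ofList (rs.take i) := by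
  have h1 := hreg.regular_mod_prev i hi
  have h2 : (Ideal.ofList (rs.take i) • ⊤ : Submodule R R) = Ideal.ofList (rs.take i) := by
    simp [Ideal.mul_top]
  have h3 : rs[i] • (Submodule.Quotient.mk y : R ⧸ (Ideal.ofList (rs.take i) • ⊤ : Submodule R R)) = rs[i] • 0 := by
    rw [smul_zero, ← Submodule.Quotient.mk_smul, Submodule.Quotient.mk_eq_zero, h2]
    exact h
  have h4 := h1 h3
  rwa [Submodule.Quotient.mk_eq_zero, h2] at h4

/-- The acyclicity lemma at a prime `p`. -/
theorem acyclic (hA : ∀ i, i + 2 ≤ e → A i * A (i + 1) = 0) (p : Ideal R) [p.IsPrime] (rs : List R)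
    (hmem : ∀ x ∈ rs, x ∈ p) (hreg : RingTheory.Sequence.IsWeaklyRegular R rs)
    (htail : ∀ J : Ideal R, ∀ q, rs.length ≤ q → q < e → Ex p J (F e A q) (F e A (q + 1)))
    (hsmall : ∀ p' : Ideal R, p'.IsPrime → p' < p → ∀ q, q < e → Ex p' ⊥ (F e A q) (F e A (q + 1))) :
    ∀ q, q < e → Ex p ⊥ (F e A q) (F e A (q + 1)) := by
  classical
  have hsucc : ∀ (i : ℕ) (hi : i < rs.length), Ideal.ofList (rs.take (i + 1)) =
      Ideal.ofList (rs.take i) ⊔ Ideal.span {rs[i]} := by
    intro i hi
    rw [List.take_add_one, List.getElem?_eq_getElem hi, Option.toList_some, Ideal.ofList_append,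
      Ideal.ofList_singleton]
  have hup : ∀ i, i ≤ rs.length → ∀ p' : Ideal R, p'.IsPrime → p' < p → ∀ q, i ≤ q → q < e →
      Ex p' (Ideal.ofList (rs.take i)) (F e A q) (F e A (q + 1)) := by
    intro i
    induction i with
    | zero => intro _ p' hp' hlt q _ hq; simpa using hsmall p' hp' hlt q hq
    | succ i ih =>
      intro hi p' hp' hlt q hiq hq v hv
      obtain ⟨q, rfl⟩ : ∃ q', q = q' + 1 := ⟨q - 1, by omega⟩
      have hi' : i < rs.length := by omega
      have hJ := hsucc i hi'
      set J := Ideal.ofList (rs.take i)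
      have hv' : ∀ k, ∃ y, (F e A (q + 1) *ᵥ v) k - rs[i] * y ∈ J := by
        intro k
        obtain ⟨a, ha, b, hb, hab⟩ := Submodule.mem_sup.mp (hJ ▸ hv k)
        obtain ⟨c, rfl⟩ := Ideal.mem_span_singleton.mp hb
        exact ⟨c, by rw [← hab, add_sub_cancel_right]; exact ha⟩
      choose y hy using hv'
      have hyJ : InJ J (F e A q *ᵥ y) := by
        intro k
        refine regular_take hreg hi' ?_
        have h1 : InJ J (F e A q *ᵥ (F e A (q + 1) *ᵥ v - rs[i] • y)) := InJ.mulVec _ fun k => hy k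
        rw [Matrix.mulVec_sub, Matrix.mulVec_mulVec, F_mul_F e A hA, Matrix.zero_mulVec, zero_sub,
          Matrix.mulVec_smul] at h1
        simpa using h1 k
      obtain ⟨s, hs, w, hw⟩ := ih (by omega) p' hp' hlt q (by omega) (by omega) y hyJ
      have h2 : InJ J (F e A (q + 1) *ᵥ (s • v - rs[i] • w)) := by
        have h3 : InJ J (s • (F e A (q + 1) *ᵥ v - rs[i] • y) + rs[i] • (s • y - F e A (q + 1) *ᵥ w)) :=
          (InJ.smul (fun k => hy k) s).add (hw.smul _)
        convert h3 using 1
        rw [Matrix.mulVec_sub, Matrix.mulVec_smul, Matrix.mulVec_smul]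
        module
      obtain ⟨t, ht, z, hz⟩ := ih (by omega) p' hp' hlt (q + 1) (by omega) hq _ h2
      refine ⟨t * s, fun h => (hp'.mem_or_mem h).elim ht hs, z, fun k => ?_⟩
      rw [hJ]
      refine Submodule.mem_sup.mpr ⟨_, hz k, rs[i] * (t * w k),
        Ideal.mem_span_singleton.mpr (dvd_mul_right _ _), ?_⟩
      simp only [Pi.sub_apply, Pi.smul_apply, smul_eq_mul]
      ring
  have hdown : ∀ j i, i + j = rs.length → ∀ q, i ≤ q → q < e →
      Ex p (Ideal.ofList (rs.take i)) (F e A q) (F e A (q + 1)) := by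
    intro j
    induction j with
    | zero => intro i hi q hiq hq; exact htail _ q (by omega) hq
    | succ j ih =>
      intro i hij q hiq hq v hv
      have hi' : i < rs.length := by omega
      have hJ := hsucc i hi'
      set J := Ideal.ofList (rs.take i)
      let Good : Ideal R :=
        { carrier := {t | ∃ w, InJ J (t • v - F e A (q + 1) *ᵥ w)}
          add_mem' := fun {a b} ⟨w, hw⟩ ⟨w', hw'⟩ => ⟨w + w', by
            convert hw.add hw' using 1
            rw [Matrix.mulVec_add, add_smul]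
            abel⟩
          zero_mem' := ⟨0, fun k => by simp⟩
          smul_mem' := fun c a ⟨w, hw⟩ => ⟨c • w, by
            convert hw.smul c using 1
            rw [Matrix.mulVec_smul, smul_sub, smul_smul, smul_eq_mul]⟩ }
      obtain ⟨N, s, hs, hN⟩ : ∃ (N : ℕ) (s : R), s ∉ p ∧ s * rs[i] ^ N ∈ Good := by
        by_contra hcon
        simp only [not_exists, not_and] at hcon
        let S : Submonoid R := p.primeCompl ⊔ Submonoid.powers rs[i]
        have hdisj : Disjoint (Good : Set R) S := by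
          rw [Set.disjoint_right]
          intro t ht htG
          obtain ⟨a, ha, _, ⟨N, rfl⟩, rfl⟩ := Submonoid.mem_sup.mp ht
          exact hcon N a ha htG
        obtain ⟨Q, hQ, hQG, hQS⟩ := Ideal.exists_le_prime_disjoint _ S hdisj
        have hQp : Q ≤ p := fun t ht => by
          by_contra htp
          exact Set.disjoint_left.mp hQS ht (Submonoid.mem_sup_left htp)
        have hlt : Q < p := lt_of_le_of_ne hQp fun hh => Set.disjoint_left.mp hQS
          (hh ▸ hmem _ (List.getElem_mem hi')) (Submonoid.mem_sup_right (Submonoid.mem_powers _))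
        obtain ⟨s, hs, w, hw⟩ := hup i (by omega) Q hQ hlt q hiq hq v hv
        exact hs (hQG ⟨w, hw⟩)
      -- cancel the regular element
      induction N generalizing s with
      | zero =>
        rw [pow_zero, mul_one] at hN
        exact ⟨s, hs, hN⟩
      | succ N ihN =>
        obtain ⟨w, hw⟩ := hN
        have h1 : (s * rs[i] ^ (N + 1)) • v = rs[i] • ((s * rs[i] ^ N) • v) := by
          rw [smul_smul]; ring_nf
        rw [h1] at hw
        by_cases hq1 : q + 1 < e
        · have hFw : InJ (Ideal.ofList (rs.take (i + 1))) (F e A (q + 1) *ᵥ w) := by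
            intro k
            rw [hJ]
            refine Submodule.mem_sup.mpr ⟨_, J.neg_mem (hw k), rs[i] * ((s * rs[i] ^ N) * v k),
              Ideal.mem_span_singleton.mpr (dvd_mul_right _ _), ?_⟩
            simp only [Pi.sub_apply, Pi.smul_apply, smul_eq_mul]
            ring
          obtain ⟨t, ht, u, hu⟩ := ih (i + 1) (by omega) (q + 1) (by omega) hq1 w hFw
          have hu' : ∀ k, ∃ y, (t • w - F e A (q + 1 + 1) *ᵥ u) k - rs[i] * y ∈ J := by
            intro k
            obtain ⟨a, ha, b, hb, hab⟩ := Submodule.mem_sup.mp (hJ ▸ hu k)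
            obtain ⟨c, rfl⟩ := Ideal.mem_span_singleton.mp hb
            exact ⟨c, by rw [← hab, add_sub_cancel_right]; exact ha⟩
          choose y hy using hu'
          refine ihN (t * s) (fun h => (‹p.IsPrime›.mem_or_mem h).elim ht hs) ⟨y, fun k => ?_⟩
          refine regular_take hreg hi' ?_
          have h2 : InJ J (t • (rs[i] • ((s * rs[i] ^ N) • v) - F e A (q + 1) *ᵥ w) +
              F e A (q + 1) *ᵥ ((t • w - F e A (q + 1 + 1) *ᵥ u) - rs[i] • y)) :=
            (hw.smul t).add (InJ.mulVec _ fun k => hy k)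
          rw [Matrix.mulVec_sub, Matrix.mulVec_sub, Matrix.mulVec_mulVec, F_mul_F e A hA, Matrix.zero_mulVec,
            sub_zero, Matrix.mulVec_smul, Matrix.mulVec_smul] at h2
          convert h2 k using 1
          simp only [Pi.add_apply, Pi.sub_apply, Pi.smul_apply, smul_eq_mul]
          ring
        · refine ihN s hs ⟨0, fun k => regular_take hreg hi' ?_⟩
          rw [F_of_le e A (not_lt.mp hq1), Matrix.zero_mulVec, sub_zero] at hw
          simpa using hw k
  intro q hq
  simpa using hdown rs.length 0 (zero_add _) q (Nat.zero_le _) hq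

theorem ex_bot_iff {p : Ideal R} {a q b : ℕ} (M : Matrix (Fin a) (Fin q) R) (N : Matrix (Fin q) (Fin b) R) :
    Ex p ⊥ M N ↔ ∀ v : Fin q → R, M *ᵥ v = 0 → ∃ s ∉ p, ∃ w : Fin b → R, s • v = N *ᵥ w := by
  simp only [Ex, InJ, Submodule.mem_bot]
  constructor
  · intro h v hv
    obtain ⟨s, hs, w, hw⟩ := h v (fun k => congrFun hv k)
    exact ⟨s, hs, w, sub_eq_zero.mp (funext hw)⟩
  · intro h v hv
    obtain ⟨s, hs, w, hw⟩ := h v (funext hv)
    exact ⟨s, hs, w, fun k => by rw [hw, sub_self]; rfl⟩

theorem conclude (he : 1 ≤ e) (hA : ∀ i, i + 2 ≤ e → A i * A (i + 1) = 0)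
    (h : ∀ q, q < e → ∀ v : Fin (n (q + 1)) → R, F e A q *ᵥ v = 0 → ∃ w, v = F e A (q + 1) *ᵥ w) :
    LinearMap.ker (A (e - 1)).mulVecLin = ⊥ ∧
      ∀ i, i + 2 ≤ e → LinearMap.ker (A i).mulVecLin = LinearMap.range (A (i + 1)).mulVecLin := by
  constructor
  · rw [LinearMap.ker_eq_bot']
    intro v hv
    rw [Matrix.mulVecLin_apply, ← F_of_lt e A (show e - 1 < e by omega)] at hv
    obtain ⟨w, hw⟩ := h (e - 1) (by omega) v hv
    rw [F_of_le e A (show e ≤ e - 1 + 1 by omega), Matrix.zero_mulVec] at hw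
    exact hw
  · intro i hi
    refine le_antisymm (fun v hv => ?_) ?_
    · rw [LinearMap.mem_ker, Matrix.mulVecLin_apply, ← F_of_lt e A (show i < e by omega)] at hv
      obtain ⟨w, hw⟩ := h i (by omega) v hv
      refine ⟨w, ?_⟩
      rw [Matrix.mulVecLin_apply, hw, F_of_lt e A (show i + 1 < e by omega)]
    · rintro _ ⟨w, rfl⟩
      rw [LinearMap.mem_ker, Matrix.mulVecLin_apply, Matrix.mulVecLin_apply, Matrix.mulVec_mulVec, hA i hi,
        Matrix.zero_mulVec]

end Groth.Agent.CAlg99.Acyclicity
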