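import Groth.Agent.SerreSplit.Basic
import Mathlib.Algebra.Module.Projective
import Mathlib.RingTheory.Localization.AtPrime.Basic
import Mathlib.RingTheory.Localization.Module
import Mathlib.RingTheory.Spectrum.Prime.FreeLocus
import Mathlib.RingTheory.Spectrum.Prime.Noetherian
import Mathlib.RingTheory.Spectrum.Prime.Topology
import Mathlib.Topology.KrullDimension
import Mathlib.RingTheory.KrullDimension.Basic
import Mathlib.LinearAlgebra.Basis.Basic
import Mathlib.Tactic.LinearCombination
import Mathlib.Tactic.Abel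

/-!
Bass cancellation: unimodular shearing, and cancellation of free summands from projective modules
of rank exceeding the dimension of the maximal spectrum.
-/

set_option autoImplicit false

universe u

open TopologicalSpace

namespace Groth.Agent.CAlg99.BassCancel

open Groth.Agent.SerreSplit.Basic

variable {R : Type u} [CommRing R] {M : Type u} [AddCommGroup M] [Module R M]

/-- A one-element family. -/
abbrev one (m : M) : Fin 1 → M := Fin.snoc Fin.elim0 m

theorem ind_one_iff {x : Ideal R} [hx : x.IsMaximal] {m : M} : Ind x (one m) ↔ m ∉ perp x M := by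
  constructor
  · intro H hm
    refine hx.ne_top ((Ideal.eq_top_iff_one _).mpr (H (fun _ => 1) ?_ 0))
    simpa [one, Fin.sum_univ_castSucc, Fin.snoc] using hm
  · intro hm c hc i
    obtain rfl : i = Fin.last 0 := Subsingleton.elim _ _
    simp only [one, Fin.sum_univ_castSucc, Fin.snoc_last, Finset.univ_eq_empty, Finset.sum_empty,
      zero_add] at hc
    by_contra hd
    obtain ⟨e, f, hf, hef⟩ := hx.exists_inv hd
    refine hm ?_
    have h2 : f • m ∈ perp x M := smul_top_le_perp x (Submodule.smul_mem_smul hf trivial)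
    have h3 := add_mem ((perp x M).smul_mem e hc) h2
    rwa [smul_smul, ← add_smul, hef, one_smul] at h3

/-- The degeneracy set of an element. -/
abbrev degOne (m : M) : Set (MaximalSpectrum R) := deg (R := R) (one m)

theorem mem_degOne_iff {x : MaximalSpectrum R} {m : M} : x ∈ degOne (R := R) m ↔ m ∈ perp x.asIdeal M := by
  show ¬ Ind x.asIdeal (one m) ↔ _
  rw [ind_one_iff, not_not]

/-- Shear `p₀` by a multiple of `a` so that its degeneracy set has codimension at least `k`. -/
theorem exists_shear [NoetherianSpace (MaximalSpectrum R)] (p₀ : M) (a : R)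
    (huni : ∀ x : MaximalSpectrum R, a ∈ x.asIdeal → p₀ ∉ perp x.asIdeal M) (k : ℕ)
    (hrk : ∀ x : MaximalSpectrum R, k ≤ Module.finrank (R ⧸ x.asIdeal)
        ((M ⧸ (x.asIdeal • ⊤ : Submodule R M)) ⧸ barPerp x.asIdeal M)) :
    ∃ t : M, ∀ W : IrreducibleCloseds (MaximalSpectrum R),
      (W : Set (MaximalSpectrum R)) ⊆ degOne (R := R) (p₀ + a • t) → (k : ℕ∞) ≤ Order.coheight W := by
  classical
  induction k with
  | zero => exact ⟨0, fun W _ => by simp⟩
  | succ k ih =>
    obtain ⟨q, hq⟩ := ih fun x => le_trans (by omega) (hrk x)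
    let s' := p₀ + a • q
    obtain ⟨S₁, hS₁, hS₁'⟩ := exists_components (isClosed_deg (R := R) (one s'))
    choose y hy using fun C : S₁ => C.1.isIrreducible.nonempty
    let Y : Finset (MaximalSpectrum R) := Finset.univ.image y
    have hYdeg : ∀ x ∈ Y, x ∈ degOne (R := R) s' := by
      intro x hx
      obtain ⟨C, -, rfl⟩ := Finset.mem_image.mp hx
      exact hS₁ _ C.2 (hy C)
    have haY : ∀ x ∈ Y, a ∉ x.asIdeal := by
      intro x hx hax
      refine huni x hax ?_
      have h1 := mem_degOne_iff.mp (hYdeg x hx)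
      have h2 : a • q ∈ perp x.asIdeal M := smul_top_le_perp _ (Submodule.smul_mem_smul hax trivial)
      simpa [s'] using sub_mem h1 h2
    choose u hu using fun x : Y => exists_new (x := x.1.asIdeal) (s := (Fin.elim0 : Fin 0 → M))
      (fun _ _ i => i.elim0) (le_trans (by omega) (hrk x.1))
    let v' : MaximalSpectrum R → M := fun x => if hx : x ∈ Y then u ⟨x, hx⟩ else 0
    obtain ⟨t', ht'X, ht'⟩ := exists_section (R := R) (M := M) k 1 (one s') (degOne (R := R) s') Y v'
      (isClosed_deg _) (fun x hx => hYdeg x hx) (fun x => le_trans (by omega) (hrk x)) subset_rfl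
    obtain ⟨S₂, hS₂, hS₂'⟩ :=
      exists_components (isClosed_deg (R := R) (Fin.snoc (one s') t' : Fin 2 → M))
    let L₂ := S₂.filter fun C : IrreducibleCloseds (MaximalSpectrum R) =>
      ¬ (C : Set (MaximalSpectrum R)) ⊆ degOne (R := R) s'
    choose z hz hzF using fun C : L₂ => Set.not_subset.mp (Finset.mem_filter.mp C.2).2
    let Zs : Finset (MaximalSpectrum R) := Finset.univ.image z
    obtain ⟨c, hc⟩ := exists_congr (M := R) (Y ∪ Zs) fun x => if x ∈ Y then (1 : R) else 0
    have hc' : ∀ x ∈ Y ∪ Zs, c - (if x ∈ Y then (1 : R) else 0) ∈ x.asIdeal :=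
      fun x hx => hc x hx LinearMap.id
    refine ⟨q + c • t', fun W hW => ?_⟩
    have hnew : p₀ + a • (q + c • t') = s' + (a * c) • t' := by
      simp only [s', smul_add, smul_smul]
      abel
    rw [hnew] at hW
    by_cases hW₁ : (W : Set (MaximalSpectrum R)) ⊆ degOne (R := R) s'
    · obtain ⟨C, hC, hWC⟩ := hS₁' W hW₁
      let C' : S₁ := ⟨C, hC⟩
      refine coheight_gain hWC (hy C') (fun hyW => ?_) (hq C (hS₁ C hC))
      have hYy : y C' ∈ Y := Finset.mem_image.mpr ⟨C', Finset.mem_univ _, rfl⟩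
      have h0 := mem_degOne_iff.mp (hW hyW)
      have h1 := ht'X _ hYy
      simp only [v', dif_pos hYy] at h1
      have h2 := hc' _ (Finset.mem_union_left Zs hYy)
      rw [if_pos hYy] at h2
      have hac : a * c ∉ (y C').asIdeal := by
        intro hmem
        rcases (y C').isMaximal.isPrime.mem_or_mem hmem with h | h
        · exact haY _ hYy h
        · exact (y C').isMaximal.ne_top ((Ideal.eq_top_iff_one _).mpr (by simpa using sub_mem h h2))
      have h4 : (a * c) • t' ∈ perp (y C').asIdeal M := by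
        simpa using sub_mem h0 (mem_degOne_iff.mp (hYdeg _ hYy))
      obtain ⟨e, f, hf, hef⟩ := (y C').isMaximal.exists_inv hac
      have h5 : t' ∈ perp (y C').asIdeal M := by
        have h6 : f • t' ∈ perp (y C').asIdeal M :=
          smul_top_le_perp _ (Submodule.smul_mem_smul hf trivial)
        have h7 := add_mem ((perp (y C').asIdeal M).smul_mem e h4) h6
        rwa [smul_smul, ← add_smul, hef, one_smul] at h7
      have h8 : u ⟨_, hYy⟩ ∈ perp (y C').asIdeal M := by simpa using sub_mem h5 h1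
      exact ind_one_iff.mp (hu ⟨_, hYy⟩) h8
    · have hWd : (W : Set (MaximalSpectrum R)) ⊆ deg (Fin.snoc (one s') t' : Fin 2 → M) :=
        fun x hx H => hW hx (ind_combine (a * c) H)
      obtain ⟨C, hC, hWC⟩ := hS₂' W hWd
      have hCF : ¬ (C : Set (MaximalSpectrum R)) ⊆ degOne (R := R) s' :=
        fun hh => hW₁ (hWC.trans hh)
      let C' : L₂ := ⟨C, Finset.mem_filter.mpr ⟨hC, hCF⟩⟩
      refine coheight_gain hWC (hz C') (fun hzW => ?_) (ht' C (hS₂ C hC) hCF)
      have hnot := hzF C'
      have hzY : z C' ∉ Y := fun hY => hnot (hYdeg _ hY)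
      have h2 := hc' _ (Finset.mem_union_right Y (Finset.mem_image.mpr ⟨C', Finset.mem_univ _, rfl⟩ : z C' ∈ Zs))
      rw [if_neg hzY, sub_zero] at h2
      have h3 : (a * c) • t' ∈ perp (z C').asIdeal M :=
        smul_top_le_perp _ (Submodule.smul_mem_smul (Ideal.mul_mem_left _ a h2) trivial)
      exact hnot (mem_degOne_iff.mpr (by simpa using sub_mem (mem_degOne_iff.mp (hW hzW)) h3))

theorem exists_form_eq_one (m : M) (h : ∀ x : MaximalSpectrum R, m ∉ perp x.asIdeal M) :
    ∃ φ : M →ₗ[R] R, φ m = 1 := by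
  suffices h' : LinearMap.range (LinearMap.applyₗ m : (M →ₗ[R] R) →ₗ[R] R) = ⊤ by
    obtain ⟨φ, hφ⟩ : (1 : R) ∈ LinearMap.range (LinearMap.applyₗ m : (M →ₗ[R] R) →ₗ[R] R) := h' ▸ trivial
    exact ⟨φ, hφ⟩
  by_contra hne
  obtain ⟨x, hx, hle⟩ := Ideal.exists_le_maximal _ hne
  exact h ⟨x, hx⟩ fun φ => hle ⟨φ, rfl⟩

/-- Bass: a unimodular element of `M × R` can be sheared to one of `M`. -/
theorem exists_shear_unimodular [NoetherianSpace (MaximalSpectrum R)] (d : ℕ)
    (hdim : topologicalKrullDim (MaximalSpectrum R) ≤ d)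
    (hrk : ∀ x : MaximalSpectrum R, d + 1 ≤ Module.finrank (R ⧸ x.asIdeal)
        ((M ⧸ (x.asIdeal • ⊤ : Submodule R M)) ⧸ barPerp x.asIdeal M))
    (p₀ : M) (a : R) (ψ : M →ₗ[R] R) (b : R) (hψ : ψ p₀ + b * a = 1) :
    ∃ (t : M) (φ : M →ₗ[R] R), φ (p₀ + a • t) = 1 := by
  obtain ⟨t, ht⟩ := exists_shear p₀ a (fun x hax hp => x.isMaximal.ne_top
    ((Ideal.eq_top_iff_one _).mpr (hψ ▸ add_mem (hp ψ) (Ideal.mul_mem_left _ b hax)))) (d + 1) hrk
  refine ⟨t, exists_form_eq_one _ fun x hx => ?_⟩
  have h1 := ht ⟨{x}, isIrreducible_singleton, isClosed_singleton⟩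
    (Set.singleton_subset_iff.mpr (mem_degOne_iff.mpr hx))
  have h2 := (WithBot.coe_le_coe.mpr h1).trans ((Order.coheight_le_krullDim _).trans hdim)
  have h3 : ((d + 1 : ℕ) : ℕ∞) ≤ (d : ℕ∞) := WithBot.coe_le_coe.mp h2
  exact absurd (Nat.cast_le.mp h3) (by omega)

theorem noetherianSpace_max [IsNoetherianRing R] : NoetherianSpace (MaximalSpectrum R) :=
  (⟨rfl⟩ : Topology.IsInducing (MaximalSpectrum.toPrimeSpectrum : MaximalSpectrum R → _)).noetherianSpace

theorem topologicalKrullDim_max_le {d : ℕ} (hdim : ringKrullDim R ≤ d) :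
    topologicalKrullDim (MaximalSpectrum R) ≤ d :=
  ((⟨rfl⟩ : Topology.IsInducing
      (MaximalSpectrum.toPrimeSpectrum : MaximalSpectrum R → _)).topologicalKrullDim_le).trans
    ((PrimeSpectrum.topologicalKrullDim_eq_ringKrullDim R).trans_le hdim)

/-- For a finite projective module of rank at least `k`, all values `V(x)` have dimension at least `k`. -/
theorem le_finrank_bar [Module.Finite R M] [Module.Projective R M] {k : ℕ}
    (hk : ∀ p : PrimeSpectrum R, k ≤ Module.rankAtStalk (R := R) M p) (x : MaximalSpectrum R) :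
    k ≤ Module.finrank (R ⧸ x.asIdeal)
      ((M ⧸ (x.asIdeal • ⊤ : Submodule R M)) ⧸ barPerp x.asIdeal M) := by
  classical
  haveI : Module.FinitePresentation R M := Module.finitePresentation_of_projective R M
  let S := x.asIdeal.primeCompl
  let A := Localization.AtPrime x.asIdeal
  let l := LocalizedModule.mkLinearMap S M
  haveI : Module.Free A (LocalizedModule S M) := Module.free_of_flat_of_isLocalRing
  obtain ⟨n, hn, ⟨B⟩⟩ : ∃ n, k ≤ n ∧ Nonempty (Module.Basis (Fin n) A (LocalizedModule S M)) :=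
    ⟨_, hk ⟨x.asIdeal, x.isMaximal.isPrime⟩, ⟨Module.finBasis A (LocalizedModule S M)⟩⟩
  choose p hp using fun j : Fin k => Module.FinitePresentation.exists_lift_of_isLocalizedModule S
    (Algebra.linearMap R A) (((B.coord (Fin.castLE hn j)).restrictScalars R).comp l)
  choose σ hσ using hp
  choose m hm using fun i : Fin k => IsLocalizedModule.surj S l (B (Fin.castLE hn i))
  have hval : ∀ i j, algebraMap R A (p j (m i).1) =
      algebraMap R A (((σ j : R) * ((m i).2 : R)) * (if i = j then 1 else 0)) := by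
    intro i j
    have h1 := LinearMap.congr_fun (hσ j) (m i).1
    simp only [LinearMap.comp_apply, Algebra.linearMap_apply, LinearMap.smul_apply,
      LinearMap.restrictScalars_apply] at h1
    rw [h1, ← hm i, Submonoid.smul_def, Submonoid.smul_def, LinearMap.map_smul_of_tower,
      Module.Basis.coord_apply, Module.Basis.repr_self, Finsupp.single_apply, Algebra.smul_def,
      Algebra.smul_def, map_mul, map_mul, mul_assoc]
    simp only [Fin.castLE_inj]
    split_ifs <;> simp
  have hind : Ind x.asIdeal fun i => (m i).1 := by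
    intro c hc i
    have h1 : ∀ r : R, r ∈ x.asIdeal ↔ algebraMap R A r ∈ IsLocalRing.maximalIdeal A := fun r =>
      (IsLocalization.AtPrime.to_map_mem_maximal_iff _ x.asIdeal r).symm
    have h2 := (h1 _).mp (hc (p i))
    simp only [map_sum, map_smul, smul_eq_mul, map_mul, hval] at h2
    rw [Finset.sum_eq_single i (fun j _ hj => by simp [hj]) (by simp)] at h2
    simp only [← map_mul, ← h1] at h2
    simp only [eq_self_iff_true, if_true, mul_one] at h2
    exact (x.isMaximal.isPrime.mem_or_mem h2).resolve_right fun h =>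
      (x.isMaximal.isPrime.mem_or_mem h).elim (σ i).2 (m i).2.2
  letI := Ideal.Quotient.field x.asIdeal
  have : Module.Finite (R ⧸ x.asIdeal) (M ⧸ (x.asIdeal • ⊤ : Submodule R M)) :=
    Module.Finite.of_restrictScalars_finite R _ _
  simpa using ((linearIndependent_iff_ind _ _).mpr hind).fintype_card_le_finrank

/-- A linear equivalence of `M × R` fixing `(0, 1)` induces one of the first factors. -/
noncomputable def dropLast {N : Type u} [AddCommGroup N] [Module R N] (E : (M × R) ≃ₗ[R] (N × R))
    (hE : E (0, 1) = (0, 1)) : M ≃ₗ[R] N := by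
  have key : ∀ (r : R), E (0, r) = (0, r) := fun r => by
    rw [show ((0 : M), r) = r • (0, 1) by simp, map_smul, hE]
    simp
  have key' : ∀ (r : R), E.symm (0, r) = (0, r) := fun r => by
    exact E.symm_apply_eq.mpr (key r).symm
  refine
    { toLinearMap := (LinearMap.fst R N R) ∘ₗ E.toLinearMap ∘ₗ (LinearMap.inl R M R)
      invFun := fun y => (E.symm (y, 0)).1
      left_inv := ?_
      right_inv := ?_ }
  · intro x
    have h : ((E (x, 0)).1, (0 : R)) = E (x, 0) - (0, (E (x, 0)).2) := by
      ext <;> simp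
    show (E.symm ((E (x, 0)).1, 0)).1 = x
    rw [h, map_sub, LinearEquiv.symm_apply_apply, key']
    simp
  · intro y
    have h : ((E.symm (y, 0)).1, (0 : R)) = E.symm (y, 0) - (0, (E.symm (y, 0)).2) := by
      ext <;> simp
    show (E ((E.symm (y, 0)).1, 0)).1 = y
    rw [h, map_sub, LinearEquiv.apply_symm_apply, key]
    simp

/-- The shear automorphism `(p, r) ↦ (p + r • v, r)`. -/
noncomputable def shearFst (v : M) : (M × R) ≃ₗ[R] (M × R) where
  toFun z := (z.1 + z.2 • v, z.2)
  invFun z := (z.1 - z.2 • v, z.2)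
  map_add' z w := by ext <;> simp [add_smul] <;> abel
  map_smul' r z := by ext <;> simp [mul_smul]
  left_inv z := by ext <;> simp
  right_inv z := by ext <;> simp

/-- The shear automorphism `(p, r) ↦ (p, r + f p)`. -/
noncomputable def shearSnd (f : M →ₗ[R] R) : (M × R) ≃ₗ[R] (M × R) where
  toFun z := (z.1, z.2 + f z.1)
  invFun z := (z.1, z.2 - f z.1)
  map_add' z w := by ext <;> simp <;> abel
  map_smul' r z := by ext <;> simp [mul_add]
  left_inv z := by ext <;> simp
  right_inv z := by ext <;> simp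

/-- Serre splitting of one free summand, the complement being a kernel. -/
theorem split_one [IsNoetherianRing R] [Module.Finite R M] [Module.Projective R M] {d : ℕ}
    (hdim : ringKrullDim R ≤ d)
    (hk : ∀ p : PrimeSpectrum R, d + 1 ≤ Module.rankAtStalk (R := R) M p) :
    ∃ φ : M →ₗ[R] R, Function.Surjective φ := by
  haveI := noetherianSpace_max (R := R)
  obtain ⟨t, φ, hφ⟩ := exists_shear_unimodular d (topologicalKrullDim_max_le hdim)
    (le_finrank_bar hk) (0 : M) 1 0 1 (by simp)
  exact ⟨φ, fun r => ⟨r • (0 + (1 : R) • t), by rw [map_smul, hφ, smul_eq_mul, mul_one]⟩⟩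

/-- Bass cancellation of one free summand. -/
theorem cancel_one [IsNoetherianRing R] [Module.Finite R M] [Module.Projective R M] {d : ℕ}
    (hdim : ringKrullDim R ≤ d)
    (hk : ∀ p : PrimeSpectrum R, d + 1 ≤ Module.rankAtStalk (R := R) M p)
    {N : Type u} [AddCommGroup N] [Module R N] (e : (M × R) ≃ₗ[R] (N × R)) :
    Nonempty (M ≃ₗ[R] N) := by
  haveI := noetherianSpace_max (R := R)
  obtain ⟨⟨p₀, a⟩, hpa⟩ : ∃ z, z = e.symm (0, 1) := ⟨_, rfl⟩
  let θ : (M × R) →ₗ[R] R := LinearMap.snd R N R ∘ₗ e.toLinearMap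
  have hθ : θ (p₀, a) = 1 := by simp [θ, hpa]
  have hψ : (θ ∘ₗ LinearMap.inl R M R) p₀ + θ (0, 1) * a = 1 := by
    rw [mul_comm, ← smul_eq_mul, ← map_smul, LinearMap.comp_apply, ← map_add]
    simpa using hθ
  obtain ⟨t, φ, hφ⟩ := exists_shear_unimodular d (topologicalKrullDim_max_le hdim)
    (le_finrank_bar hk) p₀ a _ _ hψ
  let T : (M × R) ≃ₗ[R] (M × R) :=
    (shearFst t).trans ((shearSnd ((1 - a) • φ)).trans (shearFst (-(p₀ + a • t))))
  have hT : T (p₀, a) = (0, 1) := by
    simp only [T, LinearEquiv.trans_apply, shearFst, shearSnd, LinearEquiv.coe_mk,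
      LinearMap.coe_mk, AddHom.coe_mk, LinearMap.smul_apply, hφ, smul_eq_mul, mul_one,
      add_sub_cancel, one_smul, add_neg_cancel]
  refine ⟨dropLast (T.symm.trans e) ?_⟩
  rw [LinearEquiv.trans_apply, ← hT, LinearEquiv.symm_apply_apply, hpa, LinearEquiv.apply_symm_apply]

/-- Bass cancellation of free summands. -/
theorem cancel [IsNoetherianRing R] [Module.Finite R M] [Module.Projective R M] {d : ℕ}
    (hdim : ringKrullDim R ≤ d)
    (hk : ∀ p : PrimeSpectrum R, d + 1 ≤ Module.rankAtStalk (R := R) M p)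
    {N : Type u} [AddCommGroup N] [Module R N] (m : ℕ)
    (e : (M × (Fin m → R)) ≃ₗ[R] (N × (Fin m → R))) : Nonempty (M ≃ₗ[R] N) := by
  induction m with
  | zero =>
    exact ⟨(LinearEquiv.prodUnique).symm.trans (e.trans LinearEquiv.prodUnique)⟩
  | succ m ih =>
    have split : ∀ (P : Type u) [AddCommGroup P] [Module R P],
        Nonempty ((P × (Fin (m + 1) → R)) ≃ₗ[R] ((P × (Fin m → R)) × R)) := fun P _ _ =>
      ⟨(LinearEquiv.prodCongr (LinearEquiv.refl R P)
        ((Fin.consLinearEquiv R fun _ : Fin (m + 1) => R).symm.trans (LinearEquiv.prodComm R R _))).trans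
        (LinearEquiv.prodAssoc R P (Fin m → R) R).symm⟩
    obtain ⟨sM⟩ := split M
    obtain ⟨sN⟩ := split N
    have hk' : ∀ p : PrimeSpectrum R, d + 1 ≤ Module.rankAtStalk (R := R) (M × (Fin m → R)) p := by
      intro p
      rw [Module.rankAtStalk_prod, Pi.add_apply]
      exact (hk p).trans (Nat.le_add_right _ _)
    obtain ⟨e'⟩ := cancel_one hdim hk' (sM.symm.trans (e.trans sN))
    exact ih e'

end Groth.Agent.CAlg99.BassCancel
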