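/-
The subgroup of `Hom(ℤ^r, ℤ/δ)` spanned by `x ↦ b(d, x) + (1 - g) b(x, x)`, `b` symmetric bilinear.
-/
import Mathlib

namespace CAlg99.BilinLattice

/-- Every vector of `ℤ^(n+1)` is its gcd times the first vector of some basis. -/
theorem exists_basis {n : ℕ} (d : Fin (n + 1) → ℤ) :
    ∃ T : (Fin (n + 1) → ℤ) ≃ₗ[ℤ] (Fin (n + 1) → ℤ), T d = Pi.single 0 (Finset.univ.gcd d) := by
  obtain ⟨v, hv, hv1⟩ := Finset.extract_gcd d (Finset.univ_nonempty)
  obtain ⟨c, hc⟩ := Finset.gcd_eq_sum_mul Finset.univ v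
  rw [hv1] at hc
  let u : (Fin (n + 1) → ℤ) →ₗ[ℤ] ℤ := ∑ i, c i • LinearMap.proj i
  have huv : u v = 1 := by simp [u, hc, mul_comm]
  let p : (Fin (n + 1) → ℤ) →ₗ[ℤ] LinearMap.ker u :=
    (LinearMap.id - u.smulRight v).codRestrict _ fun x => by
      show u (x - u x • v) = 0
      rw [map_sub, map_smul, huv, smul_eq_mul, mul_one, sub_self]
  let e : (Fin (n + 1) → ℤ) ≃ₗ[ℤ] ℤ × LinearMap.ker u :=
    LinearEquiv.ofLinear (u.prod p) ((LinearMap.toSpanSingleton ℤ _ v).coprod (LinearMap.ker u).subtype)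
      (by
        refine LinearMap.ext fun x => ?_
        obtain ⟨a, k, hk⟩ := x
        have hk' : u k = 0 := hk
        refine Prod.ext ?_ (Subtype.ext ?_)
        · show u (a • v + k) = a
          rw [map_add, map_smul, huv, hk', smul_eq_mul, mul_one, add_zero]
        · show a • v + k - u (a • v + k) • v = k
          rw [map_add, map_smul, huv, hk', smul_eq_mul, mul_one, add_zero, add_sub_cancel_left])
      (by
        refine LinearMap.ext fun x => ?_
        show u x • v + (x - u x • v) = x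
        exact add_sub_cancel _ _)
  have hrank : Module.finrank ℤ (LinearMap.ker u) = n := by
    have h := e.finrank_eq
    rw [Module.finrank_prod, Module.finrank_self, Module.finrank_fin_fun] at h
    omega
  let ek : LinearMap.ker u ≃ₗ[ℤ] (Fin n → ℤ) := (Module.finBasisOfFinrankEq ℤ _ hrank).equivFun
  refine ⟨e.trans ((LinearEquiv.prodCongr (LinearEquiv.refl ℤ ℤ) ek).trans
    (Fin.consLinearEquiv ℤ fun _ : Fin (n + 1) => ℤ)), ?_⟩
  have hd : d = Finset.univ.gcd d • v := funext fun i => by simpa using hv i (Finset.mem_univ i)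
  have hev : e v = (1, 0) := Prod.ext huv (Subtype.ext (by
    show v - u v • v = 0
    rw [huv, one_smul, sub_self]))
  conv_lhs => rw [hd]
  rw [map_smul, LinearEquiv.trans_apply, hev]
  ext i
  refine Fin.cases ?_ (fun j => ?_) i <;> simp [Fin.consLinearEquiv]

variable {n δ : ℕ} {g : ℤ}

/-- The subgroup generated by the quadratic maps. -/
def H (δ : ℕ) (g : ℤ) {n : ℕ} (d : Fin n → ℤ) : AddSubgroup ((Fin n → ℤ) →+ ZMod δ) :=
  AddSubgroup.closure {φ : (Fin n → ℤ) →+ ZMod δ | ∃ b : LinearMap.BilinForm ℤ (Fin n → ℤ), b.IsSymm ∧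
      ∀ x, φ x = ((b d x + (1 - g) * b x x : ℤ) : ZMod δ)}

/-- `x ↦ L x • z`. -/
def mulHom (L : (Fin n → ℤ) →ₗ[ℤ] ℤ) : ZMod δ →+ ((Fin n → ℤ) →+ ZMod δ) where
  toFun z := { toFun := fun x => (L x : ZMod δ) * z, map_zero' := by simp, map_add' := fun x y => by simp [add_mul] }
  map_zero' := by ext x; simp
  map_add' z w := by ext x; simp [mul_add]

@[simp] theorem mulHom_apply (L : (Fin n → ℤ) →ₗ[ℤ] ℤ) (z : ZMod δ) (x : Fin n → ℤ) :
    mulHom L z x = (L x : ZMod δ) * z := rfl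

theorem zmod_sq (hδ : (δ : ℤ) ∣ 2 * (g - 1)) (m : ℤ) :
    (((1 - g) * (m * m) : ℤ) : ZMod δ) = (((1 - g) * m : ℤ) : ZMod δ) := by
  rw [← sub_eq_zero, ← Int.cast_sub, ZMod.intCast_zmod_eq_zero_iff_dvd]
  obtain ⟨k, hk⟩ : (2 : ℤ) ∣ (m * m - m) := by
    rw [show m * m - m = m * (m - 1) by ring]
    exact even_iff_two_dvd.1 (Int.even_mul_pred_self m)
  calc (δ : ℤ) ∣ 2 * (g - 1) := hδ
    _ ∣ _ := ⟨-k, by rw [show (1 - g) * (m * m) - (1 - g) * m = (1 - g) * (m * m - m) by ring, hk]; ring⟩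

/-- The divisor cut out at the `i`th basis vector. -/
def modulus (δ : ℕ) (g D : ℤ) {n : ℕ} (i : Fin (n + 1)) : ℕ :=
  if i = 0 then Int.gcd δ (D + 1 - g) else Int.gcd δ (Int.gcd (g - 1) D)

theorem modulus_dvd (δ : ℕ) (g D : ℤ) (i : Fin (n + 1)) : modulus δ g D i ∣ δ := by
  unfold modulus
  split <;> exact Int.natCast_dvd_natCast.1 (Int.gcd_dvd_left _ _)

theorem mem_H_iff (hδ : (δ : ℤ) ∣ 2 * (g - 1)) {d : Fin (n + 1) → ℤ} {D : ℤ}
    (T : (Fin (n + 1) → ℤ) ≃ₗ[ℤ] (Fin (n + 1) → ℤ)) (hT : T d = Pi.single 0 D)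
    (φ : (Fin (n + 1) → ℤ) →+ ZMod δ) :
    φ ∈ H δ g d ↔ ∀ i, ∃ y : ZMod δ, φ (T.symm (Pi.single i 1)) = (modulus δ g D i : ZMod δ) * y := by
  classical
  have hd : d = D • T.symm (Pi.single 0 1) := T.injective (by
    rw [hT, map_smul, T.apply_symm_apply]
    ext i; rcases eq_or_ne i 0 with rfl | h <;> simp [*])
  constructor
  · intro hφ i
    have hle : H δ g d ≤ (AddMonoidHom.mulLeft (modulus δ g D i : ZMod δ)).range.comap
        (AddMonoidHom.eval (T.symm (Pi.single i 1))) := by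
      refine (AddSubgroup.closure_le _).2 fun ψ hψ => ?_
      obtain ⟨b, -, hb⟩ := hψ
      obtain ⟨q, hq⟩ : (modulus δ g D i : ℤ) ∣
          b d (T.symm (Pi.single i 1)) + (1 - g) * b (T.symm (Pi.single i 1)) (T.symm (Pi.single i 1)) := by
        rw [hd, map_smul, LinearMap.smul_apply, smul_eq_mul]
        unfold modulus
        split
        · subst i
          rw [← add_mul, show D + (1 - g) = D + 1 - g by ring]
          exact (Int.gcd_dvd_right _ _).mul_right _
        · exact dvd_add (((Int.gcd_dvd_right _ _).trans (Int.gcd_dvd_right _ _)).mul_right _)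
            ((dvd_sub_comm.1 ((Int.gcd_dvd_right _ _).trans (Int.gcd_dvd_left _ _))).mul_right _)
      exact ⟨(q : ZMod δ), by
        show (modulus δ g D i : ZMod δ) * q = ψ _
        rw [hb, hq]; push_cast; rfl⟩
    obtain ⟨y, hy⟩ := hle hφ
    exact ⟨y, hy.symm⟩
  · intro h
    choose y hy using h
    let ξ : Fin (n + 1) → (Fin (n + 1) → ℤ) →ₗ[ℤ] ℤ := fun i => (LinearMap.proj i).comp T.toLinearMap
    have hξd : ∀ i, ξ i d = if i = 0 then D else 0 := fun i => by
      show T d i = _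
      rw [hT, Pi.single_apply]
    have hφ : φ = ∑ i, mulHom (ξ i) ((modulus δ g D i : ZMod δ) * y i) := by
      refine AddMonoidHom.ext fun x => ?_
      have hx : x = ∑ i, T x i • T.symm (Pi.single i 1) := by
        apply T.injective
        simp only [map_sum, map_smul, T.apply_symm_apply]
        ext j; simp [Pi.single_apply]
      conv_lhs => rw [hx, map_sum]
      rw [AddMonoidHom.finsetSum_apply]
      refine Finset.sum_congr rfl fun i _ => ?_
      rw [map_zsmul, hy, mulHom_apply, zsmul_eq_mul]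
      rfl
    have sq : ∀ i, mulHom (ξ i) ((ξ i d : ZMod δ) + ((1 - g : ℤ) : ZMod δ)) ∈ H δ g d := fun i => by
      refine AddSubgroup.subset_closure ⟨LinearMap.BilinForm.linMulLin (ξ i) (ξ i),
        ⟨fun x y => by simp [mul_comm]⟩, fun x => ?_⟩
      rw [LinearMap.BilinForm.linMulLin_apply, LinearMap.BilinForm.linMulLin_apply, Int.cast_add,
        zmod_sq hδ, mulHom_apply]
      push_cast
      ring
    have cross : ∀ i, i ≠ 0 → mulHom (ξ i) (D : ZMod δ) ∈ H δ g d := fun i hi => by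
      refine AddSubgroup.subset_closure ⟨LinearMap.BilinForm.linMulLin (ξ i) (ξ 0) +
        LinearMap.BilinForm.linMulLin (ξ 0) (ξ i), ⟨fun x y => by simp; ring⟩, fun x => ?_⟩
      have h0 : (((1 - g) * (ξ i x * ξ 0 x + ξ 0 x * ξ i x) : ℤ) : ZMod δ) = 0 := by
        rw [ZMod.intCast_zmod_eq_zero_iff_dvd]
        exact hδ.trans ⟨-(ξ i x * ξ 0 x), by ring⟩
      simp only [LinearMap.add_apply, LinearMap.BilinForm.linMulLin_apply, hξd, if_neg hi, if_pos rfl,
        mulHom_apply]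
      rw [Int.cast_add, h0]
      push_cast
      ring
    rw [hφ]
    refine sum_mem fun i _ => ?_
    suffices hm : ((modulus δ g D i : ℤ) : ZMod δ) ∈ (H δ g d).comap (mulHom (ξ i)) by
      rw [← AddSubgroup.mem_comap, show (modulus δ g D i : ZMod δ) * y i =
        ((y i).cast : ℤ) • ((modulus δ g D i : ℤ) : ZMod δ) by
          rw [zsmul_eq_mul, ZMod.intCast_zmod_cast]; push_cast; ring]
      exact AddSubgroup.zsmul_mem _ hm _
    have key : ∀ a : ℤ, (a : ZMod δ) ∈ (H δ g d).comap (mulHom (ξ i)) →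
        ((Int.gcd δ a : ℤ) : ZMod δ) ∈ (H δ g d).comap (mulHom (ξ i)) := fun a ha => by
      rw [Int.gcd_eq_gcd_ab, Int.cast_add, Int.cast_mul, Int.cast_natCast, ZMod.natCast_self, zero_mul,
        zero_add, mul_comm, Int.cast_mul, ← zsmul_eq_mul]
      exact AddSubgroup.zsmul_mem _ ha _
    unfold modulus
    split
    · refine key _ ?_
      have h1 := sq i
      rw [hξd, if_pos ‹_›, ← Int.cast_add, show D + (1 - g) = D + 1 - g by ring] at h1
      exact h1
    · refine key _ ?_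
      have h1 := sq i
      rw [hξd, if_neg ‹_›, Int.cast_zero, zero_add] at h1
      rw [Int.gcd_eq_gcd_ab, Int.cast_add, mul_comm, mul_comm D, Int.cast_mul, Int.cast_mul,
        ← zsmul_eq_mul, ← zsmul_eq_mul]
      refine add_mem (AddSubgroup.zsmul_mem _ ?_ _) (AddSubgroup.zsmul_mem _ (show ((D : ℤ) : ZMod δ) ∈ (H δ g d).comap (mulHom (ξ i)) from cross i ‹_›) _)
      rw [show ((g - 1 : ℤ) : ZMod δ) = -((1 - g : ℤ) : ZMod δ) by push_cast; ring]
      exact neg_mem h1

/-- Homomorphisms out of `ℤ^(n+1)` with prescribed values on the basis given by `T`. -/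
def ofValues (T : (Fin (n + 1) → ℤ) ≃ₗ[ℤ] (Fin (n + 1) → ℤ)) (y : Fin (n + 1) → ZMod δ) :
    (Fin (n + 1) → ℤ) →+ ZMod δ :=
  ∑ i, mulHom ((LinearMap.proj i).comp T.toLinearMap) (y i)

theorem ofValues_apply (T : (Fin (n + 1) → ℤ) ≃ₗ[ℤ] (Fin (n + 1) → ℤ)) (y : Fin (n + 1) → ZMod δ)
    (i : Fin (n + 1)) : ofValues T y (T.symm (Pi.single i 1)) = y i := by
  classical
  simp [ofValues, AddMonoidHom.finsetSum_apply, Pi.single_apply]

end CAlg99.BilinLattice
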