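import Groth.Prelude.Def_W4c5adicflatcomplDec
import Mathlib.RingTheory.AdicCompletion.Completeness
import Mathlib.RingTheory.AdicCompletion.Functoriality
import Mathlib.RingTheory.AdicCompletion.Noetherian
import Mathlib.RingTheory.Finiteness.Basic
import Mathlib.RingTheory.Finiteness.Ideal
import Mathlib.RingTheory.Filtration

/-!
Modules of adically decaying functions: smul characterisation, completeness, adic sums, the
universal map, lifting along surjections, Artin-Rees, adic bases.
-/

namespace Groth.Agent.CAlg99.Decay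

open W4c5adicflatcompl
open Submodule

variable {A : Type*} [CommRing A] {I : Ideal A} {Z : Type*}
variable {M : Type*} [AddCommGroup M] [Module A M] {N : Type*} [AddCommGroup N] [Module A N]

theorem map_mem_pow_smul (φ : N →ₗ[A] M) {n : ℕ} {x : N} (hx : x ∈ (I ^ n • ⊤ : Submodule A N)) :
    φ x ∈ (I ^ n • ⊤ : Submodule A M) :=
  SetLike.le_def.1 (le_of_eq_of_le (Submodule.map_smul'' (I ^ n) ⊤ φ)
    (smul_mono_right _ le_top)) (Submodule.mem_map_of_mem hx)

theorem eq_zero_of_forall_mem [IsHausdorff I M] {x : M}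
    (h : ∀ n, x ∈ (I ^ n • ⊤ : Submodule A M)) : x = 0 :=
  IsHausdorff.haus ‹_› x fun n => SModEq.zero.mpr (h n)

/-! ### the level trick -/

/-- If `f` decays and every nonzero value has a finite level, one may choose preimages under a
family of conditions indexed by levels. -/
theorem exists_decaying_choice [IsHausdorff I M] (f : Z → M) (hf : f ∈ decaying I Z M) (n : ℕ)
    (hfn : ∀ z, f z ∈ (I ^ n • ⊤ : Submodule A M)) (P : Z → N → Prop)
    (h0 : ∀ z, f z = 0 → P z 0)
    (hP : ∀ z l, f z ∈ (I ^ (n + l) • ⊤ : Submodule A M) → ∃ x ∈ (I ^ l • ⊤ : Submodule A N), P z x) :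
    ∃ g ∈ decaying I Z N, ∀ z, P z (g z) := by
  classical
  have key : ∀ z, ∃ x, P z x ∧
      ∀ m, f z ∈ (I ^ (n + m) • ⊤ : Submodule A M) → x ∈ (I ^ m • ⊤ : Submodule A N) := by
    intro z
    by_cases hz : f z = 0
    · exact ⟨0, h0 z hz, fun m _ => zero_mem _⟩
    · have hex : ∃ l, f z ∉ (I ^ (n + l) • ⊤ : Submodule A M) := by
        by_contra hcon
        push Not at hcon
        exact hz (eq_zero_of_forall_mem (I := I) fun m => pow_smul_top_le I M (Nat.le_add_left m n) (hcon m))
      have hpos : 0 < Nat.find hex := by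
        rcases Nat.eq_zero_or_pos (Nat.find hex) with h | h
        · exact absurd (hfn z) (by simpa [h] using Nat.find_spec hex)
        · exact h
      obtain ⟨x, hx, hPx⟩ := hP z (Nat.find hex - 1)
        (not_not.mp (Nat.find_min hex (Nat.sub_one_lt_of_lt hpos)))
      refine ⟨x, hPx, fun m hm => pow_smul_top_le I N ?_ hx⟩
      by_contra hlt
      push Not at hlt
      exact Nat.find_spec hex (pow_smul_top_le I M (show n + Nat.find hex ≤ n + m by omega) hm)
  choose g hg hgl using key
  refine ⟨g, fun m => (hf (n + m)).subset fun z hz h => hz (hgl z m h), hg⟩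

/-- The map `(x i) ↦ ∑ aᵢ • xᵢ`. -/
def comb {r : ℕ} (a : Fin r → A) : (Fin r → N) →ₗ[A] N :=
  ∑ i, a i • LinearMap.proj i

theorem comb_apply {r : ℕ} (a : Fin r → A) (x : Fin r → N) : comb a x = ∑ i, a i • x i := by
  simp [comb]

theorem exists_sum_smul {r : ℕ} (a : Fin r → A) (J : Ideal A) (hJ : J = Ideal.span (Set.range a))
    (S : Submodule A N) {x : N} (hx : x ∈ J • S) :
    ∃ y : Fin r → N, (∀ i, y i ∈ S) ∧ ∑ i, a i • y i = x := by
  refine Submodule.smul_induction_on hx ?_ ?_
  · intro c hc s hs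
    rw [hJ] at hc
    obtain ⟨d, rfl⟩ := (Ideal.mem_span_range_iff_exists_fun).mp hc
    refine ⟨fun i => d i • s, fun i => S.smul_mem _ hs, ?_⟩
    rw [Finset.sum_smul]
    exact Finset.sum_congr rfl fun i _ => by rw [smul_smul, mul_comm]
  · rintro x y ⟨u, hu, rfl⟩ ⟨v, hv, rfl⟩
    exact ⟨u + v, fun i => S.add_mem (hu i) (hv i), by simp [Finset.sum_add_distrib]⟩

theorem apply_mem_of_mem_smul {n : ℕ} {f : decaying I Z M}
    (hf : f ∈ (I ^ n • ⊤ : Submodule A (decaying I Z M))) (z : Z) :
    (f : Z → M) z ∈ (I ^ n • ⊤ : Submodule A M) :=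
  map_mem_pow_smul ((LinearMap.proj z).comp (decaying I Z M).subtype) hf

/-- A decaying function lies in `I ^ n • F` iff all its values lie in `I ^ n • M`. -/
theorem mem_pow_smul_top_iff (hI : I.FG) [IsHausdorff I M] {n : ℕ} {f : decaying I Z M} :
    f ∈ (I ^ n • ⊤ : Submodule A (decaying I Z M)) ↔
      ∀ z, (f : Z → M) z ∈ (I ^ n • ⊤ : Submodule A M) := by
  refine ⟨fun h z => apply_mem_of_mem_smul h z, fun h => ?_⟩
  obtain ⟨r, a, ha⟩ := Submodule.fg_iff_exists_fin_generating_family.mp (Submodule.FG.pow hI n)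
  obtain ⟨g, hg, hfg⟩ := exists_decaying_choice (N := Fin r → M) (f : Z → M) f.2 n h
    (fun z x => ∑ i, a i • x i = (f : Z → M) z) (fun z hz => by simp [hz]) (fun z l hl => by
      rw [pow_add, mul_smul] at hl
      obtain ⟨y, hy, hy'⟩ := exists_sum_smul a _ ha.symm _ hl
      refine ⟨y, ?_, hy'⟩
      classical
      rw [← Finset.univ_sum_single y]
      exact sum_mem fun i _ => map_mem_pow_smul (LinearMap.single A (fun _ : Fin r => M) i) (hy i))
  have hgi : ∀ i, (fun z => g z i) ∈ decaying I Z M := fun i m =>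
    (hg m).subset fun z hz h => hz (map_mem_pow_smul (LinearMap.proj i : (Fin r → M) →ₗ[A] M) h)
  have hsum : f = ∑ i, a i • (⟨_, hgi i⟩ : decaying I Z M) := Subtype.ext (funext fun z => by
    simp [Finset.sum_apply, hfg z])
  rw [hsum]
  exact sum_mem fun i _ => Submodule.smul_mem_smul
    (ha ▸ Submodule.subset_span ⟨i, rfl⟩) trivial

theorem isHausdorff [IsHausdorff I M] : IsHausdorff I (decaying I Z M) :=
  ⟨fun f hf => Subtype.ext (funext fun z => eq_zero_of_forall_mem (I := I) fun n =>
    apply_mem_of_mem_smul (SModEq.zero.mp (hf n)) z)⟩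

theorem isAdicComplete (hI : I.FG) [IsAdicComplete I M] : IsAdicComplete I (decaying I Z M) := by
  refine { toIsHausdorff := isHausdorff, toIsPrecomplete := ⟨fun F hF => ?_⟩ }
  have hc : ∀ z, ∃ L : M, ∀ n, (F n : Z → M) z ≡ L [SMOD (I ^ n • ⊤ : Submodule A M)] := fun z =>
    IsPrecomplete.prec inferInstance fun {m n} hmn => SModEq.sub_mem.mpr
      (apply_mem_of_mem_smul (SModEq.sub_mem.mp (hF hmn)) z)
  choose L hL using hc
  have hLdec : L ∈ decaying I Z M := fun n => ((F n).2 n).subset fun z hz h => hz (by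
    have := sub_mem h (SModEq.sub_mem.mp (hL z n))
    rwa [sub_sub_cancel] at this)
  exact ⟨⟨L, hLdec⟩, fun n => SModEq.sub_mem.mpr
    ((mem_pow_smul_top_iff hI).mpr fun z => SModEq.sub_mem.mp (hL z n))⟩

/-! ### adic sums -/

/-- `m` is an adic sum of the family `h`. -/
def IsAdicSum (I : Ideal A) (h : Z → M) (m : M) : Prop :=
  ∀ n : ℕ, ∃ S : Finset Z, (∀ z, z ∉ S → h z ∈ (I ^ n • ⊤ : Submodule A M)) ∧
    m - ∑ z ∈ S, h z ∈ (I ^ n • ⊤ : Submodule A M)

theorem sum_diff_mem (h : Z → M) {n : ℕ} {S T : Finset Z}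
    (hS : ∀ z, z ∉ S → h z ∈ (I ^ n • ⊤ : Submodule A M))
    (hT : ∀ z, z ∉ T → h z ∈ (I ^ n • ⊤ : Submodule A M)) :
    ∑ z ∈ S, h z - ∑ z ∈ T, h z ∈ (I ^ n • ⊤ : Submodule A M) := by
  classical
  rw [← Finset.sum_sdiff_sub_sum_sdiff]
  exact sub_mem (sum_mem fun z hz => hT z (Finset.mem_sdiff.mp hz).2)
    (sum_mem fun z hz => hS z (Finset.mem_sdiff.mp hz).2)

theorem IsAdicSum.mem_decaying {h : Z → M} {m : M} (hm : IsAdicSum I h m) : h ∈ decaying I Z M := by
  intro n
  obtain ⟨S, hS, -⟩ := hm n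
  exact S.finite_toSet.subset fun z hz => by
    by_contra hzS
    exact hz (hS z hzS)

theorem IsAdicSum.sub_sum_mem {h : Z → M} {m : M} (hm : IsAdicSum I h m) {n : ℕ} {S : Finset Z}
    (hS : ∀ z, z ∉ S → h z ∈ (I ^ n • ⊤ : Submodule A M)) :
    m - ∑ z ∈ S, h z ∈ (I ^ n • ⊤ : Submodule A M) := by
  obtain ⟨T, hT, hT'⟩ := hm n
  have := add_mem hT' (sum_diff_mem h hT hS)
  rwa [sub_add_sub_cancel] at this

theorem IsAdicSum.unique [IsHausdorff I M] {h : Z → M} {m m' : M} (hm : IsAdicSum I h m)
    (hm' : IsAdicSum I h m') : m = m' := by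
  refine sub_eq_zero.mp (eq_zero_of_forall_mem (I := I) fun n => ?_)
  obtain ⟨T, hT, hT'⟩ := hm' n
  have := sub_mem (hm.sub_sum_mem hT) hT'
  rwa [sub_sub_sub_cancel_right] at this

theorem IsAdicSum.add {h h' : Z → M} {m m' : M} (hm : IsAdicSum I h m) (hm' : IsAdicSum I h' m') :
    IsAdicSum I (h + h') (m + m') := by
  classical
  intro n
  obtain ⟨S, hS, -⟩ := hm n
  obtain ⟨T, hT, -⟩ := hm' n
  refine ⟨S ∪ T, fun z hz => ?_, ?_⟩
  · rw [Finset.mem_union, not_or] at hz
    exact add_mem (hS z hz.1) (hT z hz.2)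
  · have := add_mem (hm.sub_sum_mem (S := S ∪ T) fun z hz => hS z fun h => hz (Finset.mem_union_left _ h))
      (hm'.sub_sum_mem (S := S ∪ T) fun z hz => hT z fun h => hz (Finset.mem_union_right _ h))
    simp only [Pi.add_apply, Finset.sum_add_distrib]
    rwa [add_sub_add_comm]

theorem IsAdicSum.smul {h : Z → M} {m : M} (hm : IsAdicSum I h m) (c : A) :
    IsAdicSum I (c • h) (c • m) := by
  intro n
  obtain ⟨S, hS, hS'⟩ := hm n
  refine ⟨S, fun z hz => Submodule.smul_mem _ c (hS z hz), ?_⟩
  have := Submodule.smul_mem _ c hS'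
  rwa [smul_sub, Finset.smul_sum] at this

theorem exists_isAdicSum [IsPrecomplete I M] {h : Z → M} (hh : h ∈ decaying I Z M) :
    ∃ m, IsAdicSum I h m := by
  classical
  let S : ℕ → Finset Z := fun n => (hh n).toFinset
  have hS : ∀ n z, z ∉ S n → h z ∈ (I ^ n • ⊤ : Submodule A M) := fun n z hz => by
    simpa [S] using hz
  obtain ⟨L, hL⟩ := IsPrecomplete.prec (I := I) (M := M) inferInstance
    (f := fun n => ∑ z ∈ S n, h z) fun {m n} hmn => SModEq.sub_mem.mpr
      (sum_diff_mem h (hS m) fun z hz => pow_smul_top_le I M hmn (hS n z hz))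
  refine ⟨L, fun n => ⟨S n, hS n, ?_⟩⟩
  have := SModEq.sub_mem.mp (hL n).symm
  exact this

theorem isAdicSum_single [DecidableEq Z] (z : Z) (m : M) : IsAdicSum I (Pi.single z m) m := by
  intro n
  refine ⟨{z}, fun z' hz' => ?_, by simp⟩
  rw [Pi.single_eq_of_ne (by simpa using hz')]
  exact zero_mem _

/-! ### the universal map -/

theorem family_mem_decaying (φ : Z → N →ₗ[A] M) (g : decaying I Z N) :
    (fun z => φ z ((g : Z → N) z)) ∈ decaying I Z M :=
  fun n => (g.2 n).subset fun z hz h => hz (map_mem_pow_smul (φ z) h)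

variable [IsAdicComplete I M]

/-- The map `g ↦ ∑ φ z (g z)`. -/
noncomputable def sumMap (φ : Z → N →ₗ[A] M) : decaying I Z N →ₗ[A] M where
  toFun g := (exists_isAdicSum (family_mem_decaying φ g)).choose
  map_add' g g' := by
    refine (exists_isAdicSum (family_mem_decaying φ (g + g'))).choose_spec.unique ?_
    have h := (exists_isAdicSum (family_mem_decaying φ g)).choose_spec.add
      (exists_isAdicSum (family_mem_decaying φ g')).choose_spec
    have he : (fun z => φ z ((↑(g + g') : Z → N) z)) =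
        (fun z => φ z ((g : Z → N) z)) + fun z => φ z ((g' : Z → N) z) := by
      ext z; simp
    rwa [← he] at h
  map_smul' c g := by
    refine (exists_isAdicSum (family_mem_decaying φ (c • g))).choose_spec.unique ?_
    have h := (exists_isAdicSum (family_mem_decaying φ g)).choose_spec.smul c
    have he : (fun z => φ z ((↑(c • g) : Z → N) z)) = c • fun z => φ z ((g : Z → N) z) := by
      ext z; simp
    rwa [← he] at h

theorem isAdicSum_sumMap (φ : Z → N →ₗ[A] M) (g : decaying I Z N) :
    IsAdicSum I (fun z => φ z ((g : Z → N) z)) (sumMap φ g) :=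
  (exists_isAdicSum (family_mem_decaying φ g)).choose_spec

theorem sumMap_single [DecidableEq Z] (φ : Z → N →ₗ[A] M) (z : Z) (x : N) :
    sumMap φ (single I z x) = φ z x := by
  refine (isAdicSum_sumMap φ _).unique ?_
  have he : (fun z' => φ z' ((single I z x : Z → N) z')) = Pi.single z (φ z x) := by
    ext z'
    by_cases h : z' = z
    · subst h; simp
    · simp [h]
  rw [he]
  exact isAdicSum_single z _

omit [IsAdicComplete I M] in
/-- Two maps to a Hausdorff module agreeing on singles agree. -/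
theorem hom_ext (hI : I.FG) [IsHausdorff I N] [IsHausdorff I M] [DecidableEq Z]
    {ψ ψ' : decaying I Z N →ₗ[A] M} (h : ∀ z x, ψ (single I z x) = ψ' (single I z x)) : ψ = ψ' := by
  ext g
  refine sub_eq_zero.mp (eq_zero_of_forall_mem (I := I) fun n => ?_)
  classical
  let S := (g.2 n).toFinset
  have hmem : g - ∑ z ∈ S, single I z ((g : Z → N) z) ∈ (I ^ n • ⊤ : Submodule A (decaying I Z N)) := by
    refine (mem_pow_smul_top_iff hI).mpr fun z => ?_
    simp only [AddSubgroupClass.coe_sub, AddSubmonoidClass.coe_finset_sum, Pi.sub_apply,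
      Finset.sum_apply, coe_single, Pi.single_apply, Finset.sum_ite_eq]
    by_cases hz : z ∈ S
    · simp [hz]
    · simp only [hz, if_false, sub_zero]
      simpa [S] using hz
  have := sub_mem (map_mem_pow_smul ψ hmem) (map_mem_pow_smul ψ' hmem)
  simpa [map_sub, map_sum, h] using this

omit [IsAdicComplete I M] in
/-- Lifting a decaying function along a surjection. -/
theorem exists_lift [IsHausdorff I M] (φ : N →ₗ[A] M) (hφ : Function.Surjective φ) (g : Z → M)
    (hg : g ∈ decaying I Z M) : ∃ f ∈ decaying I Z N, ∀ z, φ (f z) = g z :=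
  exists_decaying_choice g hg 0 (fun z => by simp) (fun z x => φ x = g z)
    (fun z hz => by rw [map_zero, hz]) fun z l hl => by
      rw [Nat.zero_add, ← LinearMap.range_eq_top.2 hφ, LinearMap.range_eq_map,
        ← Submodule.map_smul''] at hl
      exact hl

omit [IsAdicComplete I M] in
/-- Artin-Rees: decaying functions into a module with values in a submodule decay in it. -/
theorem mem_decaying_submodule [IsNoetherianRing A] [Module.Finite A M] (K : Submodule A M)
    (f : Z → K) (hf : (fun z => (f z : M)) ∈ decaying I Z M) : f ∈ decaying I Z K := by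
  obtain ⟨k, hk⟩ := I.exists_pow_inf_eq_pow_smul K
  intro n
  refine (hf (n + k)).subset fun z hz h => hz ?_
  have h2 : (f z : M) ∈ I ^ n • K := by
    have h3 : (f z : M) ∈ I ^ (n + k) • ⊤ ⊓ K := ⟨h, (f z).2⟩
    rw [hk _ (Nat.le_add_left k n), Nat.add_sub_cancel] at h3
    exact SetLike.le_def.1 (smul_mono_right _ inf_le_right) h3
  exact Submodule.mem_smul_top_iff _ _ _ |>.mpr h2

theorem isAdicComplete_adicCompletion (hI : I.FG) (N : Type*) [AddCommGroup N] [Module A N] :
    IsAdicComplete I (AdicCompletion I N) :=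
  AdicCompletion.isAdicComplete hI

/-- The `A`-linear extension to the completion of `1 ↦ m`. -/
noncomputable def evalMap (m : M) : AdicCompletion I A →ₗ[A] M :=
  (AdicCompletion.ofLinearEquiv I M).symm.toLinearMap ∘ₗ
    (AdicCompletion.map I (LinearMap.toSpanSingleton A M m)).restrictScalars A

theorem evalMap_of (m : M) (a : A) : evalMap (I := I) m (AdicCompletion.of I A a) = a • m := by
  simp [evalMap, AdicCompletion.map_of]

theorem evalMap_one (m : M) : evalMap (I := I) m (1 : AdicCompletion I A) = m := by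
  have h : AdicCompletion.of I A 1 = (1 : AdicCompletion I A) :=
    map_one (algebraMap A (AdicCompletion I A))
  rw [← h, evalMap_of, one_smul]

omit [IsAdicComplete I M] in
theorem exists_sub_of_mem (hI : I.FG) (n : ℕ) (x : AdicCompletion I N) :
    ∃ a : N, x - AdicCompletion.of I N a ∈ (I ^ n • ⊤ : Submodule A (AdicCompletion I N)) := by
  obtain ⟨a, ha⟩ := Submodule.Quotient.mk_surjective _ (AdicCompletion.eval I N n x)
  refine ⟨a, ?_⟩
  rw [AdicCompletion.pow_smul_top_eq_ker_eval hI, LinearMap.mem_ker, map_sub, AdicCompletion.eval_of,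
    Submodule.mkQ_apply, ha, sub_self]

omit [IsAdicComplete I M] in
theorem completion_hom_ext (hI : I.FG) [IsHausdorff I M] {ψ ψ' : AdicCompletion I N →ₗ[A] M}
    (h : ∀ a, ψ (AdicCompletion.of I N a) = ψ' (AdicCompletion.of I N a)) : ψ = ψ' := by
  refine LinearMap.ext fun x => sub_eq_zero.mp (eq_zero_of_forall_mem (I := I) fun n => ?_)
  obtain ⟨a, ha⟩ := exists_sub_of_mem hI n x
  have := sub_mem (map_mem_pow_smul ψ ha) (map_mem_pow_smul ψ' ha)
  simpa [map_sub, h] using this

omit [IsAdicComplete I M] in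
/-- Maps from decaying functions with values in `Â` are determined by the singles `1`. -/
theorem hom_ext_one (hI : I.FG) [IsHausdorff I M] [DecidableEq Z]
    {ψ ψ' : decaying I Z (AdicCompletion I A) →ₗ[A] M}
    (h : ∀ z, ψ (single I z 1) = ψ' (single I z 1)) : ψ = ψ' := by
  have : IsAdicComplete I (AdicCompletion I A) := AdicCompletion.isAdicComplete hI
  refine hom_ext hI fun z x => ?_
  let s : AdicCompletion I A →ₗ[A] decaying I Z (AdicCompletion I A) :=
    LinearMap.codRestrict _ (LinearMap.single A (fun _ : Z => AdicCompletion I A) z)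
      fun x => (single I z x).2
  have hs : ∀ x, s x = single I z x := fun x => rfl
  have := completion_hom_ext hI (ψ := ψ ∘ₗ s) (ψ' := ψ' ∘ₗ s) fun a => by
    have ha : AdicCompletion.of I A a = a • (1 : AdicCompletion I A) := by
      rw [Algebra.smul_def, mul_one]
      rfl
    rw [ha, map_smul, map_smul]
    exact congrArg _ (by simpa [hs] using h z)
  simpa [hs] using LinearMap.congr_fun this x

end Groth.Agent.CAlg99.Decay
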