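import Groth.Agent.CAlg99.Decay
import Mathlib.RingTheory.Flat.Basic
import Mathlib.LinearAlgebra.TensorProduct.Pi
import Mathlib.RingTheory.LocalRing.Module

/-! Tensor products with decaying functions, flatness, adic bases. -/

namespace Groth.Agent.CAlg99.DecayTensor

open W4c5adicflatcompl
open scoped TensorProduct
open CAlg99.Decay

universe u v w

variable {A : Type u} [CommRing A] [IsNoetherianRing A] {I : Ideal A} [IsAdicComplete I A]

theorem tensor_decaying (Z : Type v) (M : Type w) [AddCommGroup M] [Module A M] [Module.Finite A M] :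
    Function.Injective
        ((TensorProduct.piScalarRightHom A A M Z) ∘ₗ ((decaying I Z A).subtype.lTensor M)) ∧
      LinearMap.range
        ((TensorProduct.piScalarRightHom A A M Z) ∘ₗ ((decaying I Z A).subtype.lTensor M)) =
        decaying I Z M := by
  classical
  set Θ := (TensorProduct.piScalarRightHom A A M Z) ∘ₗ ((decaying I Z A).subtype.lTensor M) with hΘ
  have hM : IsHausdorff I M := IsHausdorff.of_le_jacobson I M (IsAdicComplete.le_jacobson_bot I)
  obtain ⟨q, e, he⟩ := Module.Finite.exists_fin' A M
  let E : Fin q → M := fun i => e (Pi.single i 1)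
  have hE : ∀ v : Fin q → A, e v = ∑ i, v i • E i := by
    intro v
    conv_lhs => rw [pi_eq_sum_univ' v]
    simp [E, map_sum]
  let γ : (Fin q → decaying I Z A) → M ⊗[A] decaying I Z A := fun g => ∑ i, E i ⊗ₜ g i
  have hγ : ∀ g z, Θ (γ g) z = ∑ i, ((g i : Z → A) z) • E i := by
    intro g z
    simp [Θ, γ, Finset.sum_apply]
  have hγs : ∀ t, ∃ g, γ g = t := by
    intro t
    induction t using TensorProduct.induction_on with
    | zero => exact ⟨0, by simp [γ]⟩
    | add s t hs ht =>
      obtain ⟨f, rfl⟩ := hs; obtain ⟨g, rfl⟩ := ht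
      exact ⟨f + g, by simp [γ, TensorProduct.tmul_add, Finset.sum_add_distrib]⟩
    | tmul m f =>
      obtain ⟨v, rfl⟩ := he m
      exact ⟨fun i => v i • f, by simp [γ, hE, TensorProduct.sum_tmul, TensorProduct.smul_tmul]⟩
  constructor
  · rw [injective_iff_map_eq_zero]
    intro t ht
    obtain ⟨g, rfl⟩ := hγs t
    have hv : ∀ z, (fun i => (g i : Z → A) z) ∈ LinearMap.ker e := fun z => by
      rw [LinearMap.mem_ker, hE, ← hγ, ht]; rfl
    let v : Z → LinearMap.ker e := fun z => ⟨_, hv z⟩
    have hvd : v ∈ decaying I Z (LinearMap.ker e) := by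
      refine mem_decaying_submodule _ v fun n => ?_
      refine ((Set.finite_iUnion fun i => (g i).2 n)).subset fun z hz => ?_
      by_contra hcon
      simp only [Set.mem_iUnion, Set.mem_ofPred_eq, not_exists, not_not] at hcon
      apply hz
      show (fun i => (g i : Z → A) z) ∈ (I ^ n • ⊤ : Submodule A (Fin q → A))
      rw [pi_eq_sum_univ' fun i => (g i : Z → A) z]
      refine sum_mem fun i _ => ?_
      exact map_mem_pow_smul (LinearMap.toSpanSingleton A (Fin q → A) (Pi.single i 1)) (hcon i)
    obtain ⟨p, k, hk⟩ := Module.Finite.exists_fin' A (LinearMap.ker e)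
    have hKh : IsHausdorff I (LinearMap.ker e) :=
      IsHausdorff.of_le_jacobson I _ (IsAdicComplete.le_jacobson_bot I)
    obtain ⟨h, hh, hkh⟩ := exists_lift k hk v hvd
    have hhj : ∀ j, (fun z => h z j) ∈ decaying I Z A := fun j n =>
      (hh n).subset fun z hz h' => hz (map_mem_pow_smul (LinearMap.proj j : (Fin p → A) →ₗ[A] A) h')
    let K : Fin p → Fin q → A := fun j => (k (Pi.single j 1)).1
    have hK : ∀ j, ∑ i, K j i • E i = 0 := fun j => by
      rw [← hE]; exact LinearMap.mem_ker.mp (k (Pi.single j 1)).2
    have hg : ∀ i, g i = ∑ j, K j i • (⟨_, hhj j⟩ : decaying I Z A) := fun i => Subtype.ext (funext fun z => by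
      have hk' : ((k (h z) : LinearMap.ker e) : Fin q → A) = fun i => (g i : Z → A) z :=
        congrArg Subtype.val (hkh z)
      have := congrFun hk' i
      rw [pi_eq_sum_univ' (h z), map_sum] at this
      simp [Finset.sum_apply] at this
      simp [Finset.sum_apply, K, ← this, mul_comm])
    show ∑ i, E i ⊗ₜ[A] g i = 0
    simp only [hg, TensorProduct.tmul_sum, ← TensorProduct.smul_tmul]
    rw [Finset.sum_comm]
    simp only [← TensorProduct.sum_tmul, hK, TensorProduct.zero_tmul, Finset.sum_const_zero]
  · refine le_antisymm ?_ fun f hf => ?_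
    · rintro _ ⟨t, rfl⟩
      obtain ⟨g, rfl⟩ := hγs t
      rw [show Θ (γ g) = fun z => ∑ i, ((g i : Z → A) z) • E i from funext (hγ g)]
      have : (fun z => ∑ i, ((g i : Z → A) z) • E i) =
          ∑ i, fun z => ((g i : Z → A) z) • E i := by ext z; simp [Finset.sum_apply]
      rw [this]
      exact sum_mem fun i _ => family_mem_decaying (fun _ => LinearMap.toSpanSingleton A M (E i)) (g i)
    · obtain ⟨v, hv, hev⟩ := exists_lift e he f hf
      have hvi : ∀ i, (fun z => v z i) ∈ decaying I Z A := fun i n =>
        (hv n).subset fun z hz h' => hz (map_mem_pow_smul (LinearMap.proj i : (Fin q → A) →ₗ[A] A) h')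
      exact ⟨γ fun i => ⟨_, hvi i⟩, funext fun z => by rw [hγ, ← hev z, hE]⟩

theorem flat_decaying (Z : Type v) : Module.Flat A (decaying I Z A) := by
  rw [Module.Flat.iff_rTensor_injective]
  intro J _
  have h := (tensor_decaying (I := I) Z J).1
  intro s t hst
  apply h
  funext z
  refine Subtype.ext ?_
  have key : ∀ t : J ⊗[A] decaying I Z A,
      (((TensorProduct.piScalarRightHom A A J Z) ∘ₗ ((decaying I Z A).subtype.lTensor J)) t z : A) =
        ((TensorProduct.lid A _ (J.subtype.rTensor _ t) : decaying I Z A) : Z → A) z := by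
    intro t
    induction t using TensorProduct.induction_on with
    | zero => simp
    | add a b ha hb =>
      rw [map_add, map_add, map_add, Pi.add_apply, Submodule.coe_add, Submodule.coe_add,
        Pi.add_apply, ha, hb]
    | tmul a f => simp [mul_comm]
  rw [key, key, hst]

end Groth.Agent.CAlg99.DecayTensor
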