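import Mathlib
import Groth.Agent.CAlg.DenseApproxInst
import Groth.Agent.S15774
import Groth.Agent.Hensel.Pair

/-!
# Finite projective modules along `A[1/t] → Ah[1/t]` for a henselian pair `(A, (t))`

`φ : A → Ah` has dense image for the `t`-adic topology, reflects divisibility by powers of `t`, and
`1 + tAh` consists of units.  Every finite projective `Ah[1/t]`-module is extended from `A[1/t]`,
and isomorphism descends.
-/

set_option autoImplicit false
set_option maxHeartbeats 1000000

universe u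

open TensorProduct

namespace Groth.Agent.CAlg99.DenseLift

open CAlg.DenseApprox

/-- The hypotheses on `φ : A → Ah`. -/
structure Data {A Ah : Type u} [CommRing A] [CommRing Ah] (φ : A →+* Ah) (t : A) : Prop where
  dense : ∀ (k : ℕ) (y : Ah), ∃ (a : A) (z : Ah), φ a - y = φ t ^ k * z
  dvd : ∀ (k : ℕ) (a : A) (z : Ah), φ a = φ t ^ k * z → ∃ c, a = t ^ k * c
  jac : ∀ y : Ah, IsUnit (1 + φ t * y)

variable {A Ah L L' : Type u} [CommRing A] [CommRing Ah] [CommRing L] [CommRing L']
  [Algebra A L] [Algebra Ah L'] [Algebra L L'] {φ : A →+* Ah} {t : A}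
  [IsLocalization.Away t L] [IsLocalization.Away (φ t) L']

omit [IsLocalization.Away t L] in
/-- The image of `t` as a unit of `L'`. -/
noncomputable def tUnit (φ : A →+* Ah) (t : A) [IsLocalization.Away (φ t) L'] : L'ˣ :=
  (IsLocalization.Away.algebraMap_isUnit (S := L') (φ t)).unit

theorem tUnit_val : (tUnit (L' := L') φ t : L') = algebraMap Ah L' (φ t) :=
  IsUnit.unit_spec _

variable (hcomp : ∀ a, algebraMap L L' (algebraMap A L a) = algebraMap Ah L' (φ a)) (D : Data φ t)
include hcomp D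

/-- An element of `L` whose image lies in `t ^ n Ah` is `t ^ n` times an element of `A`. -/
theorem exists_integral (x : L) (n : ℕ) (y : Ah)
    (hx : algebraMap L L' x = algebraMap Ah L' (φ t ^ n * y)) :
    ∃ c : A, x = algebraMap A L (t ^ n * c) := by
  have hut : IsUnit (algebraMap A L t) := IsLocalization.Away.algebraMap_isUnit t
  obtain ⟨k, a, hk⟩ := IsLocalization.Away.surj t x
  have h1 : algebraMap Ah L' (φ a) = algebraMap Ah L' (φ t ^ (k + n) * y) := by
    rw [← hcomp, ← hk, map_mul, map_pow, hx, hcomp]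
    simp only [map_mul, map_pow, pow_add]
    ring
  obtain ⟨m, hm⟩ := IsLocalization.exists_of_eq (M := Submonoid.powers (φ t)) h1
  obtain ⟨j, hj⟩ := m.2
  simp only [← hj] at hm
  obtain ⟨c, hc⟩ := D.dvd (j + (k + n)) (t ^ j * a) y (by
    rw [map_mul, map_pow, pow_add, mul_assoc]; exact hm)
  refine ⟨c, (hut.pow (j + k)).mul_left_inj.1 ?_⟩
  have hc' := congrArg (algebraMap A L) hc
  simp only [map_mul, map_pow] at hc' hk ⊢
  rw [← hk] at hc'
  linear_combination hc'

/-- The filtration `t ^ n Ah` of `L'`. -/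
noncomputable def filt (hjacA : ∀ c : A, IsUnit (1 + t * c)) : Filt L L' :=
  Filt.ofAway (algebraMap Ah L') (tUnit φ t) (φ t) tUnit_val.symm
    (fun x => by
      obtain ⟨k, a, hk⟩ := IsLocalization.Away.surj (φ t) x
      exact ⟨k, a, by rw [tUnit_val]; exact hk⟩)
    ((IsLocalization.Away.algebraMap_isUnit (S := L) t).unit⁻¹ : Lˣ)
    (by
      apply Units.eq_inv_of_mul_eq_one_left
      rw [tUnit_val, ← hcomp, ← map_mul, IsUnit.mul_val_inv, map_one])
    (fun y k => by
      obtain ⟨a, z, hz⟩ := D.dense k y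
      refine ⟨algebraMap A L a, z, ?_⟩
      rw [hcomp, ← map_sub, hz, tUnit_val, map_mul, map_pow])
    D.jac
    (fun x y hx => by
      obtain ⟨c, rfl⟩ := exists_integral hcomp D x 1 y (by rw [hx, tUnit_val, pow_one, map_mul])
      rw [← map_one (algebraMap A L), ← map_add, pow_one]
      exact (hjacA c).map _)

theorem mem_filt (hjacA : ∀ c : A, IsUnit (1 + t * c)) {n : ℕ} {x : L'} :
    x ∈ (filt (L := L) (L' := L') hcomp D hjacA).S n ↔ ∃ y, algebraMap Ah L' (φ t ^ n * y) = x := by
  show x ∈ level (algebraMap Ah L') (tUnit φ t) (n : ℤ) ↔ _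
  rw [mem_level]
  simp only [zpow_natCast, Units.val_pow_eq_pow_val, tUnit_val, map_mul, map_pow]

/-- Idempotent matrices over `L'` are conjugate to idempotent matrices over `L`. -/
theorem exists_idempotent [HenselianRing A (Ideal.span {t})] {m : ℕ}
    (e : Matrix (Fin m) (Fin m) L') (he : IsIdempotentElem e) :
    ∃ (e₀ : Matrix (Fin m) (Fin m) L) (U : Matrix (Fin m) (Fin m) L'), IsIdempotentElem e₀ ∧
      IsUnit U ∧ e₀.map (algebraMap L L') * U = U * e := by
  classical
  have hjacA : ∀ c : A, IsUnit (1 + t * c) := fun c => by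
    have := Ideal.mem_jacobson_bot.1
      (HenselianRing.jac (I := Ideal.span {t}) (Ideal.mem_span_singleton_self t)) c
    rwa [add_comm] at this
  let F := filt (L := L) (L' := L') hcomp D hjacA
  obtain ⟨c₀, hc₀⟩ := exists_ent (F := F) e
  obtain ⟨c, hc, he'⟩ : ∃ c : ℤ, c ≤ 0 ∧ Ent F c e :=
    ⟨min 0 c₀, min_le_left _ _, hc₀.mono (min_le_right _ _)⟩
  obtain ⟨n, hn⟩ : ∃ n : ℕ, (n : ℤ) = 2 - 2 * c := ⟨(2 - 2 * c).toNat, by omega⟩
  obtain ⟨ε₀, hε₀⟩ := exists_ent_approx F e ((n : ℤ) - c)
  set ε' := ε₀.map (algebraMap L L') with hε'def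
  have hone : Ent F c (1 : Matrix (Fin m) (Fin m) L') := fun i j => by
    rcases eq_or_ne i j with rfl | h
    · rw [Matrix.one_apply_eq]; exact F.anti hc F.one_mem
    · rw [Matrix.one_apply_ne h]; exact (F.S c).zero_mem
  have hε'c : Ent F c ε' := by
    have := (hε₀.mono (show c ≤ (n : ℤ) - c by omega)).add he'
    rwa [sub_add_cancel] at this
  have hδ : Ent F n ((ε₀ * ε₀ - ε₀).map (algebraMap L L')) := by
    rw [Matrix.map_sub _ (map_sub _), Matrix.map_mul, ← hε'def]
    have e1 : ε' * ε' - ε' = (ε' - e) * ε' + e * (ε' - e) + -((ε' - e) * 1) := by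
      rw [mul_one, sub_mul, mul_sub, he.eq]
      abel
    rw [e1]
    exact Ent.add (Ent.add ((hε₀.mul hε'c).mono (by omega)) ((he'.mul hε₀).mono (by omega)))
      ((hε₀.mul hone).mono (by omega)).neg
  choose y hy using fun i j => (mem_filt hcomp D hjacA).1 (hδ i j)
  choose d hd using fun i j => exists_integral hcomp D _ n (y i j) (hy i j).symm
  let D₁ : Matrix (Fin m) (Fin m) A := d
  let μ : Matrix (Fin m) (Fin m) A →ₐ[A] Matrix (Fin m) (Fin m) L := (Algebra.ofId A L).mapMatrix
  have hδeq : ε₀ * ε₀ - ε₀ = algebraMap A L t ^ n • μ D₁ := by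
    ext i j
    show (ε₀ * ε₀ - ε₀) i j = algebraMap A L t ^ n * algebraMap A L (d i j)
    rw [← map_pow, ← map_mul]
    exact hd i j
  have hut : IsUnit (algebraMap A L t ^ n) := (IsLocalization.Away.algebraMap_isUnit t).pow n
  have hcomm : Commute ε₀ (μ D₁) := by
    have h1 : ε₀ * (algebraMap A L t ^ n • μ D₁) = (algebraMap A L t ^ n • μ D₁) * ε₀ := by
      rw [← hδeq, mul_sub, sub_mul, mul_assoc]
    rw [Matrix.mul_smul, Matrix.smul_mul] at h1
    exact hut.smul_left_cancel.1 h1
  -- the finite commutative algebra generated by `D₁`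
  let p := D₁.charpoly
  have hp : p.Monic := D₁.charpoly_monic
  haveI : Module.Finite A (AdjoinRoot p) := hp.finite_adjoinRoot
  haveI : Algebra.IsIntegral A (AdjoinRoot p) := Algebra.IsIntegral.of_finite _ _
  let χ : AdjoinRoot p →+* Matrix (Fin m) (Fin m) A :=
    Ideal.Quotient.lift _ (Polynomial.aeval D₁).toRingHom (fun q hq => by
      obtain ⟨r, rfl⟩ := Ideal.mem_span_singleton'.1 hq
      show Polynomial.aeval D₁ (r * p) = 0
      rw [map_mul, show Polynomial.aeval D₁ p = 0 from D₁.aeval_self_charpoly, mul_zero])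
  have hχr : χ (AdjoinRoot.root p) = D₁ := by
    show Polynomial.aeval D₁ Polynomial.X = D₁
    exact Polynomial.aeval_X D₁
  have hχa : ∀ a : A, χ (algebraMap A _ a) = algebraMap A _ a := fun a => by
    show Polynomial.aeval D₁ (Polynomial.C a) = _
    exact Polynomial.aeval_C D₁ a
  have hcommz : ∀ z, Commute (μ (χ z)) ε₀ := fun z => by
    induction z using AdjoinRoot.induction_on with
    | ih q =>
      show Commute (μ (Polynomial.aeval D₁ q)) ε₀
      induction q using Polynomial.induction_on' with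
      | add a b ha hb => rw [map_add, map_add]; exact ha.add_left hb
      | monomial k a =>
        rw [Polynomial.aeval_monomial, map_mul, map_pow, AlgHom.commutes]
        exact ((Algebra.commute_algebraMap_left a ε₀).mul_left ((hcomm.symm).pow_left k))
  haveI : HenselianRing (AdjoinRoot p) (Ideal.span {algebraMap A (AdjoinRoot p) t}) := by
    have := Hensel.henselianRing_of_isIntegral (A := A) (I := Ideal.span {t}) (AdjoinRoot p)
    rwa [Ideal.map_span, Set.image_singleton] at this
  set εC : AdjoinRoot p := algebraMap A _ t ^ n * AdjoinRoot.root p with hεC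
  obtain ⟨u, ⟨w, hw⟩, hu⟩ := S15774.root_aux (t := algebraMap A (AdjoinRoot p) t) (ε := εC)
    ((dvd_pow_self _ (show n ≠ 0 by omega)).mul_right _)
  let Ψ : Polynomial (AdjoinRoot p) →+* Matrix (Fin m) (Fin m) L :=
    Polynomial.eval₂RingHom' (μ.toRingHom.comp χ) ε₀ hcommz
  have hΨX : Ψ Polynomial.X = ε₀ := Polynomial.eval₂_X _ _
  have hΨC : ∀ z, Ψ (Polynomial.C z) = μ (χ z) := fun z => Polynomial.eval₂_C _ _
  have hs : ∀ N : Matrix (Fin m) (Fin m) L, algebraMap A L t ^ n • N =
      algebraMap A (Matrix (Fin m) (Fin m) L) (t ^ n) * N := fun N => by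
    rw [← Algebra.smul_def, ← map_pow, algebraMap_smul]
  have hΨδ : Ψ (Polynomial.X * Polynomial.X - Polynomial.X - Polynomial.C εC) = 0 := by
    rw [map_sub, map_sub, map_mul, hΨX, hΨC, hδeq, hs, hεC, ← map_pow (algebraMap A (AdjoinRoot p)),
      map_mul, map_mul, hχa, hχr, AlgHom.commutes, sub_self]
  let q : Polynomial (AdjoinRoot p) :=
    Polynomial.X + (1 - 2 * Polynomial.X) * (-(Polynomial.C u))
  have hq : q * q - q =
      (Polynomial.X * Polynomial.X - Polynomial.X - Polynomial.C εC) *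
        (1 + 4 * (Polynomial.C u + Polynomial.C u * Polynomial.C u)) := by
    have h2 := congrArg Polynomial.C hu
    simp only [map_add, map_mul, map_zero, map_ofNat, map_one] at h2
    simp only [q]
    linear_combination h2
  refine ⟨Ψ q, (Ψ q).map (algebraMap L L') * e + (1 - (Ψ q).map (algebraMap L L')) * (1 - e),
    ?_, ?_, ?_⟩
  · have := congrArg Ψ hq
    rw [map_mul Ψ (_ - _ - _), hΨδ, zero_mul, map_sub, map_mul, sub_eq_zero] at this
    exact this
  · rw [Matrix.isUnit_iff_isUnit_det]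
    refine isUnit_det (F := F) ?_
    set e₁ := (Ψ q).map (algebraMap L L') with he₁
    have hx : Ent F n ((μ (χ u)).map (algebraMap L L')) := fun i j => by
      refine (mem_filt hcomp D hjacA).2 ⟨φ ((D₁ * χ w) i j), ?_⟩
      have hu' : χ u = algebraMap A _ (t ^ n) * (D₁ * χ w) := by
        rw [hw, hεC, ← map_pow (algebraMap A (AdjoinRoot p)), map_mul, map_mul, hχa, hχr, mul_assoc]
      show _ = algebraMap L L' (algebraMap A L (χ u i j))
      rw [hcomp, hu', ← Algebra.smul_def, Matrix.smul_apply, smul_eq_mul, map_mul φ, map_pow φ]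
    have hdiff : Ent F ((n : ℤ) + c) (e₁ - e) := by
      have heq : e₁ - e = (ε' - e) + -((μ (χ u)).map (algebraMap L L') * 1) +
          (ε' * (μ (χ u)).map (algebraMap L L') + ε' * (μ (χ u)).map (algebraMap L L')) := by
        rw [he₁, show Ψ q = ε₀ + (1 - 2 * ε₀) * (-μ (χ u)) by
          simp only [q, map_add, map_mul, map_sub, map_one, map_neg, map_ofNat, hΨX, hΨC]]
        rw [show ε₀ + (1 - 2 * ε₀) * -μ (χ u) =
          ε₀ - μ (χ u) + (ε₀ * μ (χ u) + ε₀ * μ (χ u)) by
            rw [two_mul, sub_mul, one_mul, mul_neg, add_mul]; abel]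
        rw [Matrix.map_add _ (map_add _), Matrix.map_sub _ (map_sub _), Matrix.map_add _ (map_add _),
          Matrix.map_mul, ← hε'def, mul_one]
        abel
      rw [heq]
      exact Ent.add (Ent.add (hε₀.mono (by omega)) ((hx.mul hone).mono (by omega)).neg)
        (((hε'c.mul hx).mono (by omega)).add ((hε'c.mul hx).mono (by omega)))
    have h2e : Ent F c (e + e - 1) := by
      rw [sub_eq_add_neg]
      exact (he'.add he').add hone.neg
    have hUeq : e₁ * e + (1 - e₁) * (1 - e) - 1 = (e₁ - e) * (e + e - 1) := by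
      simp only [mul_add, mul_sub, sub_mul, mul_one, one_mul, he.eq]
      abel
    rw [hUeq]
    exact (hdiff.mul h2e).mono (by omega)
  · set e₁ := (Ψ q).map (algebraMap L L') with he₁
    have hidem : e₁ * e₁ = e₁ := by
      rw [he₁, ← Matrix.map_mul]
      congr 1
      have := congrArg Ψ hq
      rw [map_mul Ψ (_ - _ - _), hΨδ, zero_mul, map_sub, map_mul, sub_eq_zero] at this
      exact this
    have h3 : (1 - e) * e = 0 := by rw [sub_mul, one_mul, he.eq, sub_self]
    have h4 : e₁ * (1 - e₁) = 0 := by rw [mul_sub, mul_one, hidem, sub_self]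
    rw [mul_add, ← mul_assoc, hidem, ← mul_assoc, h4, zero_mul, add_zero, add_mul, mul_assoc, he.eq, mul_assoc, h3, mul_zero, add_zero]

/-- Every finite projective `L'`-module is extended from `L`. -/
theorem exists_extended [HenselianRing A (Ideal.span {t})]
    (M' : Type u) [AddCommGroup M'] [Module L' M'] [Module.Finite L' M'] [Module.Projective L' M'] :
    ∃ (M : Type u) (_ : AddCommGroup M) (_ : Module L M),
      Module.Finite L M ∧ Module.Projective L M ∧ Nonempty (L' ⊗[L] M ≃ₗ[L'] M') := by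
  classical
  obtain ⟨m, p, i, -, -, hpi⟩ := Module.Finite.exists_comp_eq_id_of_projective L' M'
  let e := LinearMap.toMatrix' (i ∘ₗ p)
  have hpx : ∀ x, p (i x) = x := LinearMap.congr_fun hpi
  have he : IsIdempotentElem e := by
    show e * e = e
    rw [← LinearMap.toMatrix'_comp]
    congr 1
    refine LinearMap.ext fun x => ?_
    simp [hpx]
  obtain ⟨e₀, U, he₀, hU, hint⟩ := exists_idempotent hcomp D e he
  set f₀ := Matrix.toLin' e₀ with hf₀
  have hf₀sq : f₀ ∘ₗ f₀ = f₀ := by rw [hf₀, ← Matrix.toLin'_mul, he₀.eq]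
  let M := LinearMap.range f₀
  let r : (Fin m → L) →ₗ[L] M := f₀.rangeRestrict
  let s : M →ₗ[L] (Fin m → L) := M.subtype
  have hrs : r ∘ₗ s = LinearMap.id := by
    apply LinearMap.ext
    rintro ⟨_, v, rfl⟩
    exact Subtype.ext (LinearMap.congr_fun hf₀sq v)
  refine ⟨M, inferInstance, inferInstance, Module.Finite.range f₀,
    Module.Projective.of_split s r hrs, ?_⟩
  let bm := Algebra.TensorProduct.basis L' (Pi.basisFun L (Fin m))
  let em : L' ⊗[L] (Fin m → L) ≃ₗ[L'] (Fin m → L') := bm.equivFun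
  let R := r.baseChange L'
  let S := s.baseChange L'
  have hRS : ∀ z, R (S z) = z := fun z => by
    rw [← LinearMap.comp_apply, ← LinearMap.baseChange_comp, hrs, LinearMap.baseChange_id]
    rfl
  let g := Matrix.toLin' (e₀.map (algebraMap L L'))
  have hSR : ∀ z, em (S (R z)) = g (em z) := by
    have h1 : LinearMap.toMatrix bm bm (S ∘ₗ R) = e₀.map (algebraMap L L') := by
      rw [← LinearMap.baseChange_comp, LinearMap.toMatrix_baseChange]
      congr 1
      rw [show s ∘ₗ r = f₀ from rfl, hf₀, LinearMap.toMatrix_eq_toMatrix', LinearMap.toMatrix'_toLin']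
    intro z
    have h2 := LinearMap.toMatrix_mulVec_repr bm bm (S ∘ₗ R) z
    rw [h1] at h2
    exact h2.symm.trans (Matrix.toLin'_apply _ _).symm
  obtain ⟨V, hV1, hV2⟩ : ∃ V, U * V = 1 ∧ V * U = 1 :=
    ⟨((hU.unit⁻¹ : (Matrix (Fin m) (Fin m) L')ˣ) : Matrix (Fin m) (Fin m) L'),
      hU.mul_val_inv, hU.val_inv_mul⟩
  let h : L' ⊗[L] M →ₗ[L'] M' := p ∘ₗ Matrix.toLin' V ∘ₗ em.toLinearMap ∘ₗ S
  let k : M' →ₗ[L'] L' ⊗[L] M := R ∘ₗ em.symm.toLinearMap ∘ₗ Matrix.toLin' U ∘ₗ i
  have hge : ∀ v, g (Matrix.toLin' U v) = Matrix.toLin' U (i (p v)) := fun v => by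
    rw [← Matrix.toLin'_mul_apply, hint, Matrix.toLin'_mul_apply, Matrix.toLin'_toMatrix']
    rfl
  have hVU : ∀ v, Matrix.toLin' V (Matrix.toLin' U v) = v := fun v => by
    rw [← Matrix.toLin'_mul_apply, hV2, Matrix.toLin'_one, LinearMap.id_apply]
  have hUV : ∀ v, Matrix.toLin' U (Matrix.toLin' V v) = v := fun v => by
    rw [← Matrix.toLin'_mul_apply, hV1, Matrix.toLin'_one, LinearMap.id_apply]
  refine ⟨LinearEquiv.ofLinearMap h k ?_ ?_⟩
  · refine LinearMap.ext fun x => ?_
    show p (Matrix.toLin' V (em (S (R (em.symm (Matrix.toLin' U (i x))))))) = x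
    rw [hSR, em.apply_symm_apply, hge, hVU, hpx, hpx]
  · refine LinearMap.ext fun z => ?_
    show R (em.symm (Matrix.toLin' U (i (p (Matrix.toLin' V (em (S z))))))) = z
    rw [← hge, hUV]
    conv_lhs => rw [← hSR, em.symm_apply_apply, hRS, hRS]

end Groth.Agent.CAlg99.DenseLift
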