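import Mathlib.RingTheory.PowerSeries.Basic
import Mathlib.RingTheory.PowerSeries.Inverse
import Mathlib.Algebra.Module.Projective
import Mathlib.RingTheory.TensorProduct.Basic
import Mathlib.RingTheory.Finiteness.Basic
import Mathlib.RingTheory.Finiteness.Nakayama
import Mathlib.RingTheory.Nakayama
import Mathlib.RingTheory.Jacobson.Ideal
import Mathlib.LinearAlgebra.Projection
import Mathlib.RingTheory.Finiteness.Projective

/-!
Lattices in `R⟦X⟧ ^ n`: projectivity against projectivity of the quotient.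
-/

set_option autoImplicit false

universe u

open PowerSeries
open scoped TensorProduct

namespace Groth.Agent.CAlg99.Lattice

variable {R : Type u} [CommRing R] {n : ℕ}

/-- Truncation. -/
noncomputable def tr (n M : ℕ) : (Fin n → R⟦X⟧) →ₗ[R] (Fin n → Fin M → R) :=
  LinearMap.pi fun i => LinearMap.pi fun j => (PowerSeries.coeff (j : ℕ)).comp (LinearMap.proj i)

theorem tr_apply (M : ℕ) (v : Fin n → R⟦X⟧) (i : Fin n) (j : Fin M) :
    tr n M v i j = PowerSeries.coeff (j : ℕ) (v i) := rfl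

/-- The section of truncation by polynomials. -/
noncomputable def sec (n M : ℕ) : (Fin n → Fin M → R) →ₗ[R] (Fin n → R⟦X⟧) where
  toFun w i := PowerSeries.mk fun k => if h : k < M then w i ⟨k, h⟩ else 0
  map_add' w w' := by
    funext i; ext k
    simp only [Pi.add_apply, map_add, coeff_mk]
    split_ifs <;> simp
  map_smul' c w := by
    funext i; ext k
    simp only [Pi.smul_apply, RingHom.id_apply, map_smul, coeff_mk, smul_eq_mul]
    split_ifs <;> simp

theorem tr_sec (M : ℕ) (w : Fin n → Fin M → R) : tr n M (sec n M w) = w := by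
  funext i j
  simp [tr_apply, sec]

theorem tr_eq_zero_iff (M : ℕ) (v : Fin n → R⟦X⟧) :
    tr n M v = 0 ↔ ∃ w : Fin n → R⟦X⟧, v = (X : R⟦X⟧) ^ M • w := by
  constructor
  · intro h
    have : ∀ i, (X : R⟦X⟧) ^ M ∣ v i := fun i => X_pow_dvd_iff.mpr fun k hk =>
      congrFun (congrFun h i) ⟨k, hk⟩
    choose w hw using this
    exact ⟨w, funext fun i => hw i⟩
  · rintro ⟨w, rfl⟩
    funext i j
    exact X_pow_dvd_iff.mp (Dvd.intro _ rfl) _ j.2

theorem sub_sec_tr (M : ℕ) (v : Fin n → R⟦X⟧) :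
    ∃ w : Fin n → R⟦X⟧, v - sec n M (tr n M v) = (X : R⟦X⟧) ^ M • w :=
  (tr_eq_zero_iff M _).mp (by rw [map_sub, tr_sec, sub_self])

/-- Drop the constant coefficient and shift. -/
noncomputable def drop : R⟦X⟧ →ₗ[R] R⟦X⟧ where
  toFun f := PowerSeries.mk fun k => PowerSeries.coeff (k + 1) f
  map_add' f g := by ext; simp
  map_smul' c f := by ext; simp

theorem drop_X_mul (f : R⟦X⟧) : drop (X * f) = f := by
  ext k
  simp [drop]

/-- Multiplication by `X` is `R`-split injective on a projective module over power series. -/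
theorem exists_retraction_smul_X (N : Type u) [AddCommGroup N] [Module R⟦X⟧ N] [Module R N]
    [IsScalarTower R R⟦X⟧ N] [Module.Projective R⟦X⟧ N] :
    ∃ r : N →ₗ[R] N, ∀ x : N, r ((X : R⟦X⟧) • x) = x := by
  obtain ⟨s, hs⟩ := Module.projective_def'.mp ‹Module.Projective R⟦X⟧ N›
  let D : (N →₀ R⟦X⟧) →ₗ[R] (N →₀ R⟦X⟧) := Finsupp.mapRange.linearMap drop
  refine ⟨((Finsupp.linearCombination R⟦X⟧ (id : N → N)).restrictScalars R).comp
    (D.comp (s.restrictScalars R)), fun x => ?_⟩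
  have hD : ∀ v : N →₀ R⟦X⟧, D ((X : R⟦X⟧) • v) = v := fun v => by
    ext a; simp [D, drop_X_mul]
  simp only [LinearMap.comp_apply, LinearMap.restrictScalars_apply, map_smul, hD]
  exact LinearMap.congr_fun hs x

variable {M : ℕ} {Λ : Submodule R⟦X⟧ (Fin n → R⟦X⟧)}

theorem mem_of_tr_eq (hΛ : ∀ v : Fin n → R⟦X⟧, ((X : R⟦X⟧) ^ M) • v ∈ Λ) {v w : Fin n → R⟦X⟧}
    (hw : w ∈ Λ) (h : tr n M v = tr n M w) : v ∈ Λ := by
  obtain ⟨z, hz⟩ := (tr_eq_zero_iff M (v - w)).mp (by rw [map_sub, h, sub_self])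
  rw [← sub_add_cancel v w, hz]
  exact add_mem (hΛ z) hw

/-- The image of the lattice among truncations. -/
noncomputable abbrev img (Λ : Submodule R⟦X⟧ (Fin n → R⟦X⟧)) (m : ℕ) :
    Submodule R (Fin n → Fin m → R) := (Λ.restrictScalars R).map (tr n m)

theorem sec_mem (hΛ : ∀ v : Fin n → R⟦X⟧, ((X : R⟦X⟧) ^ M) • v ∈ Λ) {l : Fin n → Fin M → R}
    (hl : l ∈ img Λ M) : sec n M l ∈ Λ := by
  obtain ⟨w, hw, rfl⟩ := hl
  exact mem_of_tr_eq hΛ hw (tr_sec M _)

/-- The truncated lattice and the quotient. -/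
theorem quotient_equiv (hΛ : ∀ v : Fin n → R⟦X⟧, ((X : R⟦X⟧) ^ M) • v ∈ Λ) :
    ∃ q : (Fin n → Fin M → R) →ₗ[R] ((Fin n → R⟦X⟧) ⧸ Λ),
      Function.Surjective q ∧ LinearMap.ker q = img Λ M := by
  refine ⟨(Λ.mkQ.restrictScalars R).comp (sec n M), fun z => ?_, ?_⟩
  · obtain ⟨v, rfl⟩ := Submodule.mkQ_surjective Λ z
    obtain ⟨w, hw⟩ := sub_sec_tr M v
    refine ⟨tr n M v, ((Submodule.Quotient.eq Λ).mpr ?_).symm⟩
    rw [hw]
    exact hΛ w
  · ext l
    rw [LinearMap.mem_ker, LinearMap.comp_apply, LinearMap.restrictScalars_apply, Submodule.mkQ_apply,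
      Submodule.Quotient.mk_eq_zero]
    exact ⟨fun h => ⟨_, h, tr_sec M l⟩, sec_mem hΛ⟩

/-- A projective lattice has projective quotient. -/
theorem projective_quotient (hΛ : ∀ v : Fin n → R⟦X⟧, ((X : R⟦X⟧) ^ M) • v ∈ Λ)
    [Module.Projective R⟦X⟧ Λ] : Module.Projective R ((Fin n → R⟦X⟧) ⧸ Λ) := by
  obtain ⟨r, hr⟩ := exists_retraction_smul_X (R := R) Λ
  have hrM : ∀ (m : ℕ) (x : Λ), (r ^ m) (((X : R⟦X⟧) ^ m) • x) = x := by
    intro m
    induction m with
    | zero => simp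
    | succ m ih =>
      intro x
      rw [pow_succ r, pow_succ' (X : R⟦X⟧), mul_smul, Module.End.mul_apply, hr, ih]
  obtain ⟨q, hq, hker⟩ := quotient_equiv hΛ
  let g : (Fin n → R⟦X⟧) →ₗ[R] Λ :=
    LinearMap.codRestrict (Λ.restrictScalars R)
      ((LinearMap.lsmul R⟦X⟧ (Fin n → R⟦X⟧) ((X : R⟦X⟧) ^ M)).restrictScalars R) hΛ
  let ρ : (Fin n → Fin M → R) →ₗ[R] (Fin n → Fin M → R) :=
    (tr n M).comp (((Λ.subtype).restrictScalars R).comp ((r ^ M).comp (g.comp (sec n M))))
  have hρmem : ∀ w, ρ w ∈ img Λ M := fun w => ⟨_, ((r ^ M) (g (sec n M w))).2, rfl⟩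
  have hρid : ∀ l ∈ img Λ M, ρ l = l := by
    intro l hl
    have h1 : g (sec n M l) = ((X : R⟦X⟧) ^ M) • (⟨sec n M l, sec_mem hΛ hl⟩ : Λ) := Subtype.ext rfl
    simp only [ρ, LinearMap.comp_apply]
    rw [h1, hrM]
    exact tr_sec M l
  let e : (Fin n → Fin M → R) →ₗ[R] (Fin n → Fin M → R) := LinearMap.id - ρ
  let s : ((Fin n → R⟦X⟧) ⧸ Λ) →ₗ[R] (Fin n → Fin M → R) :=
    ((LinearMap.ker q).liftQ e (fun l hl => by
      have hl' : l ∈ img Λ M := hker ▸ hl
      simp [e, hρid l hl'])).comp (q.quotKerEquivOfSurjective hq).symm.toLinearMap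
  refine Module.Projective.of_split s q (LinearMap.ext fun z => ?_)
  obtain ⟨w, rfl⟩ := hq z
  have h2 : (q.quotKerEquivOfSurjective hq).symm (q w) = Submodule.Quotient.mk w := by
    rw [LinearEquiv.symm_apply_eq]; rfl
  simp only [s, LinearMap.comp_apply, LinearEquiv.coe_coe, h2, Submodule.liftQ_apply, e,
    LinearMap.sub_apply, LinearMap.id_apply, map_sub, LinearMap.id_comp]
  have h3 : q (ρ w) = 0 := by
    rw [← LinearMap.mem_ker, hker]; exact hρmem w
  rw [h3, sub_zero]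

theorem isUnit_one_add_X_mul (f : R⟦X⟧) : IsUnit (1 + X * f) :=
  isUnit_iff_constantCoeff.mpr (by simp)

theorem X_mem_jacobson : (X : R⟦X⟧) ∈ Ideal.jacobson ⊥ :=
  Ideal.mem_jacobson_bot.mpr fun f => by rw [add_comm]; exact isUnit_one_add_X_mul f

theorem finite_lattice (hΛ : ∀ v : Fin n → R⟦X⟧, ((X : R⟦X⟧) ^ M) • v ∈ Λ)
    (hfg : (img Λ M).FG) : Module.Finite R⟦X⟧ Λ := by
  classical
  obtain ⟨G, hG⟩ := hfg
  refine Module.Finite.iff_fg.mpr ⟨(G.image (sec n M)) ∪
    (Finset.univ.image fun i : Fin n => ((X : R⟦X⟧) ^ M) • Pi.single i (1 : R⟦X⟧)), ?_⟩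
  refine le_antisymm (Submodule.span_le.mpr ?_) fun v hv => ?_
  · intro z hz
    simp only [Finset.coe_union, Finset.coe_image, Set.mem_union, Set.mem_image, Finset.coe_univ,
      Set.mem_univ, true_and] at hz
    rcases hz with ⟨l, hl, rfl⟩ | ⟨i, rfl⟩
    · exact sec_mem hΛ (hG ▸ Submodule.subset_span hl)
    · exact hΛ _
  · set T := Submodule.span R⟦X⟧ ((G.image (sec n M) ∪
      (Finset.univ.image fun i : Fin n => ((X : R⟦X⟧) ^ M) • Pi.single i (1 : R⟦X⟧)) : Finset _) : Set (Fin n → R⟦X⟧))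
    obtain ⟨w, hw⟩ := sub_sec_tr M v
    have hl : tr n M v ∈ Submodule.span R (G : Set (Fin n → Fin M → R)) := hG ▸ ⟨v, hv, rfl⟩
    have h1 : sec n M (tr n M v) ∈ T := by
      have h := Submodule.mem_map_of_mem (f := sec n M) hl
      rw [Submodule.map_span] at h
      refine Submodule.span_le_restrictScalars R R⟦X⟧ _ (Submodule.span_mono ?_ h)
      simp
    have h2 : ((X : R⟦X⟧) ^ M) • w ∈ T := by
      have h3 : w = ∑ i, w i • Pi.single i (1 : R⟦X⟧) := by
        funext j; simp [Finset.sum_apply, Pi.single_apply]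
      rw [h3, Finset.smul_sum]
      refine Submodule.sum_mem _ fun i _ => ?_
      rw [smul_comm]
      exact Submodule.smul_mem _ _ (Submodule.subset_span (by simp))
    rw [← sub_add_cancel v (sec n M (tr n M v)), hw]
    exact add_mem h2 h1

/-- A lattice with projective quotient is finite projective. -/
theorem finite_projective_lattice (hΛ : ∀ v : Fin n → R⟦X⟧, ((X : R⟦X⟧) ^ M) • v ∈ Λ)
    [Module.Projective R ((Fin n → R⟦X⟧) ⧸ Λ)] :
    Module.Finite R⟦X⟧ Λ ∧ Module.Projective R⟦X⟧ Λ := by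
  classical
  have hΛ' : ∀ v : Fin n → R⟦X⟧, ((X : R⟦X⟧) ^ (M + 1)) • v ∈ Λ := fun v => by
    rw [pow_succ, mul_smul]; exact hΛ _
  obtain ⟨q, hq, hker⟩ := quotient_equiv hΛ
  obtain ⟨σ, hσ⟩ := Module.projective_lifting_property q LinearMap.id hq
  let ρ : (Fin n → Fin M → R) →ₗ[R] img Λ M :=
    LinearMap.codRestrict (img Λ M) (LinearMap.id - σ ∘ₗ q) fun w => by
      rw [← hker, LinearMap.mem_ker]
      have := LinearMap.congr_fun hσ (q w)
      simp only [LinearMap.comp_apply, LinearMap.id_apply] at this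
      simp [this]
  have hρ : ∀ l : img Λ M, ρ l = l := fun l => by
    have h0 : q (l : Fin n → Fin M → R) = 0 := by rw [← LinearMap.mem_ker, hker]; exact l.2
    ext : 1
    simp [ρ, h0]
  have hfg : (img Λ M).FG := by
    have h : LinearMap.range ρ = ⊤ := LinearMap.range_eq_top.mpr fun l => ⟨l, hρ l⟩
    haveI : Module.Finite R (img Λ M) := Module.Finite.of_surjective ρ (LinearMap.range_eq_top.mp h)
    exact Module.Finite.iff_fg.mp inferInstance
  haveI hfin := finite_lattice hΛ hfg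
  refine ⟨hfin, ?_⟩
  obtain ⟨q', hq', hker'⟩ := quotient_equiv hΛ'
  obtain ⟨σ', hσ'⟩ := Module.projective_lifting_property q' LinearMap.id hq'
  let L' := img Λ (M + 1)
  let ρ' : (Fin n → Fin (M + 1) → R) →ₗ[R] L' :=
    LinearMap.codRestrict L' (LinearMap.id - σ' ∘ₗ q') fun w => by
      rw [show L' = LinearMap.ker q' from hker'.symm, LinearMap.mem_ker]
      have := LinearMap.congr_fun hσ' (q' w)
      simp only [LinearMap.comp_apply, LinearMap.id_apply] at this
      simp [this]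
  have hρ' : ∀ l : L', ρ' l = l := fun l => by
    have h0 : q' (l : Fin n → Fin (M + 1) → R) = 0 := by rw [← LinearMap.mem_ker, hker']; exact l.2
    ext : 1
    simp [ρ', h0]
  haveI : Module.Projective R L' := Module.Projective.of_split L'.subtype ρ' (LinearMap.ext hρ')
  -- multiplication by `X` on truncations, with its retraction
  let j : img Λ M →ₗ[R] L' :=
    LinearMap.codRestrict L'
      ((tr n (M + 1)).comp (((LinearMap.lsmul R⟦X⟧ (Fin n → R⟦X⟧) X).restrictScalars R).comp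
        ((sec n M).comp (img Λ M).subtype)))
      fun l => Submodule.mem_map_of_mem (f := tr n (M + 1))
        (show (X : R⟦X⟧) • sec n M (l : Fin n → Fin M → R) ∈ Λ.restrictScalars R from Λ.smul_mem X (sec_mem hΛ l.2))
  let d : (Fin n → Fin (M + 1) → R) →ₗ[R] (Fin n → Fin M → R) :=
    LinearMap.pi fun i => LinearMap.pi fun k => (LinearMap.proj (R := R) (φ := fun _ : Fin (M + 1) => R) k.succ).comp (LinearMap.proj (R := R) (φ := fun _ : Fin n => Fin (M + 1) → R) i)
  let r : L' →ₗ[R] img Λ M := ρ.comp (d.comp L'.subtype)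
  have hrj : ∀ l, r (j l) = l := fun l => by
    have : d (j l : Fin n → Fin (M + 1) → R) = (l : Fin n → Fin M → R) := by
      funext i k
      simp [d, j, tr_apply, sec, coeff_succ_X_mul]
    simp only [r, LinearMap.comp_apply, Submodule.subtype_apply, this, hρ]
  let B : Submodule R L' := LinearMap.ker r
  haveI : Module.Projective R B :=
    Module.Projective.of_split B.subtype
      (LinearMap.codRestrict B (LinearMap.id - j ∘ₗ r) fun z => by simp [B, hrj])
      (LinearMap.ext fun z => Subtype.ext (by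
        have hz : r (z : L') = 0 := z.2
        simp [hz]))
  let T : Λ →ₗ[R] L' :=
    LinearMap.codRestrict L' ((tr n (M + 1)).comp (Λ.subtype.restrictScalars R))
      fun x => Submodule.mem_map_of_mem (f := tr n (M + 1))
        (show (x : Fin n → R⟦X⟧) ∈ Λ.restrictScalars R from x.2)
  have hT : ∀ x : Λ, (T x : Fin n → Fin (M + 1) → R) = tr n (M + 1) (x : Fin n → R⟦X⟧) := fun _ => rfl
  have hj : ∀ l : img Λ M, (j l : Fin n → Fin (M + 1) → R) =
      tr n (M + 1) ((X : R⟦X⟧) • sec n M (l : Fin n → Fin M → R)) := fun _ => rfl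
  let π : Λ →ₗ[R] B :=
    LinearMap.codRestrict B ((LinearMap.id - j ∘ₗ r).comp T) fun z => by simp [B, hrj]
  have hπ : ∀ x : Λ, (π x : L') = T x - j (r (T x)) := fun _ => rfl
  have hπker : ∀ x : Λ, π x = 0 ↔ ∃ y : Λ, x = (X : R⟦X⟧) • y := by
    intro x
    constructor
    · intro h
      have h1 : T x = j (r (T x)) := by
        rw [← sub_eq_zero, ← hπ, h]; rfl
      have h' : tr n (M + 1) (x : Fin n → R⟦X⟧) =
          tr n (M + 1) ((X : R⟦X⟧) • sec n M (r (T x) : Fin n → Fin M → R)) := by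
        rw [← hT, ← hj, ← h1]
      obtain ⟨w, hw⟩ := (tr_eq_zero_iff (M + 1) _).mp (by rw [map_sub, h', sub_self] :
        tr n (M + 1) ((x : Fin n → R⟦X⟧) - (X : R⟦X⟧) • sec n M (r (T x) : Fin n → Fin M → R)) = 0)
      refine ⟨⟨sec n M (r (T x) : Fin n → Fin M → R) + ((X : R⟦X⟧) ^ M) • w,
        add_mem (sec_mem hΛ (r (T x)).2) (hΛ w)⟩, ?_⟩
      ext1
      rw [Submodule.coe_smul, smul_add, smul_smul, ← pow_succ', ← hw]
      abel
    · rintro ⟨y, rfl⟩
      let l : img Λ M := ⟨tr n M (y : Fin n → R⟦X⟧), Submodule.mem_map_of_mem (f := tr n M)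
        (show (y : Fin n → R⟦X⟧) ∈ Λ.restrictScalars R from y.2)⟩
      have h : T ((X : R⟦X⟧) • y) = j l := by
        refine Subtype.ext ?_
        rw [hT, hj]
        obtain ⟨w, hw⟩ := sub_sec_tr M (y : Fin n → R⟦X⟧)
        rw [← sub_eq_zero, ← map_sub, Submodule.coe_smul, ← smul_sub, hw, smul_smul, ← pow_succ',
          tr_eq_zero_iff]
        exact ⟨w, rfl⟩
      refine Subtype.ext ?_
      rw [hπ, h, hrj, sub_self]
      rfl
  have hπsurj : Function.Surjective π := fun b => by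
    obtain ⟨v, hv, hvb⟩ := (b : L').2
    refine ⟨⟨v, hv⟩, Subtype.ext ?_⟩
    have hb : r (b : L') = 0 := b.2
    have h : T ⟨v, hv⟩ = b := Subtype.ext hvb
    rw [hπ, h, hb, map_zero, sub_zero]
  obtain ⟨t, ht⟩ := Module.projective_lifting_property π LinearMap.id hπsurj
  let ψ : R⟦X⟧ ⊗[R] B →ₗ[R⟦X⟧] Λ := LinearMap.liftBaseChange R⟦X⟧ t
  let ε : R⟦X⟧ ⊗[R] B →ₗ[R] B :=
    (TensorProduct.lid R B).toLinearMap.comp (LinearMap.rTensor B (PowerSeries.coeff 0))
  have hεker : ∀ z, ∃ z', z = (1 : R⟦X⟧) ⊗ₜ[R] ε z + (X : R⟦X⟧) • z' := by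
    intro z
    induction z using TensorProduct.induction_on with
    | zero => exact ⟨0, by simp⟩
    | tmul s b =>
      refine ⟨drop s ⊗ₜ b, ?_⟩
      simp only [ε, LinearMap.comp_apply, LinearMap.rTensor_tmul, LinearEquiv.coe_coe, TensorProduct.lid_tmul]
      rw [← TensorProduct.smul_tmul, TensorProduct.smul_tmul', ← TensorProduct.add_tmul]
      congr 1
      conv_lhs => rw [PowerSeries.eq_X_mul_shift_add_const s]
      rw [add_comm, smul_eq_mul]
      congr 1
      simp [PowerSeries.smul_eq_C_mul]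
    | add a b ha hb =>
      obtain ⟨a', ha⟩ := ha; obtain ⟨b', hb⟩ := hb
      refine ⟨a' + b', ?_⟩
      rw [map_add, TensorProduct.tmul_add, smul_add]
      conv_lhs => rw [ha, hb]
      abel
  have hπX : ∀ y : Λ, π ((X : R⟦X⟧) • y) = 0 := fun y => (hπker _).mpr ⟨y, rfl⟩
  have hψε : ∀ z, π (ψ z) = ε z := by
    intro z
    obtain ⟨z', hz⟩ := hεker z
    conv_lhs => rw [hz]
    rw [map_add, map_smul, map_add, hπX, add_zero]
    simpa [ψ] using LinearMap.congr_fun ht (ε z)
  have hXinj : ∀ y : Λ, (X : R⟦X⟧) • y = 0 → y = 0 := fun y hy => by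
    refine Subtype.ext (funext fun i => ?_)
    have h := congrFun (congrArg Subtype.val hy) i
    simp only [Submodule.coe_smul, Pi.smul_apply, smul_eq_mul, ZeroMemClass.coe_zero, Pi.zero_apply] at h
    rw [← drop_X_mul ((y : Fin n → R⟦X⟧) i), h, map_zero]
    rfl
  have hdiv : ∀ (m : ℕ) (z : R⟦X⟧ ⊗[R] B), ψ z = 0 → ∃ w, z = ((X : R⟦X⟧) ^ m) • w ∧ ψ w = 0 := by
    intro m
    induction m with
    | zero => exact fun z hz => ⟨z, by simp, hz⟩
    | succ m ih =>
      intro z hz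
      obtain ⟨w, rfl, hw⟩ := ih z hz
      obtain ⟨w', hw'⟩ := hεker w
      have hε0 : ε w = 0 := by rw [← hψε, hw, map_zero]
      rw [hε0, TensorProduct.tmul_zero, zero_add] at hw'
      refine ⟨w', by rw [hw', smul_smul, ← pow_succ], hXinj _ ?_⟩
      rw [← map_smul, ← hw', hw]
  have hinj : Function.Injective ψ := by
    rw [injective_iff_map_eq_zero]
    intro z hz
    obtain ⟨s, hs⟩ := Module.projective_def'.mp (inferInstance : Module.Projective R⟦X⟧ (R⟦X⟧ ⊗[R] B))
    have hsz : s z = 0 := by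
      ext a k
      obtain ⟨w, rfl, -⟩ := hdiv (k + 1) z hz
      rw [map_smul, Finsupp.smul_apply, smul_eq_mul, Finsupp.coe_zero, Pi.zero_apply, map_zero]
      exact X_pow_dvd_iff.mp (Dvd.intro _ rfl) k (Nat.lt_succ_self k)
    have := LinearMap.congr_fun hs z
    simp only [LinearMap.comp_apply, hsz, map_zero, LinearMap.id_apply] at this
    exact this.symm
  have hsurj : Function.Surjective ψ := by
    rw [← LinearMap.range_eq_top, ← top_le_iff]
    refine Submodule.le_of_le_smul_of_le_jacobson_bot Module.Finite.fg_top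
      ((Ideal.span_singleton_le_iff_mem _).mpr X_mem_jacobson) fun x _ => ?_
    have h : π (x - ψ (1 ⊗ₜ π x)) = 0 := by
      rw [map_sub, hψε]
      simp [ε]
    obtain ⟨y, hy⟩ := (hπker _).mp h
    rw [← sub_add_cancel x (ψ (1 ⊗ₜ π x)), hy]
    exact add_mem (Submodule.mem_sup_right (Submodule.smul_mem_smul (Ideal.mem_span_singleton_self X) trivial))
      (Submodule.mem_sup_left ⟨_, rfl⟩)
  exact Module.Projective.of_equiv (LinearEquiv.ofBijective ψ ⟨hinj, hsurj⟩)

end Groth.Agent.CAlg99.Lattice
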