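import Mathlib

/-!
# Normal forms in `R⟦x,y⟧ / (xy - r)`

For `r` in the maximal ideal of a complete Noetherian local ring, every class has a unique normal
form `∑ aᵢ (xⁱ or y⁻ⁱ)`; `phi f i` is its `i`-th coefficient.  A valuation `v` with `v r = e`
induces Gauss weights which are additive on products.
-/

set_option autoImplicit false
set_option maxHeartbeats 1600000

universe u

open MvPowerSeries IsLocalRing

namespace Groth.Agent.CAlg99.NodeSeries

variable {R : Type u} [CommRing R]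

/-- The exponent `(p, q)`. -/
noncomputable def E (p q : ℕ) : Fin 2 →₀ ℕ := Finsupp.equivFunOnFinite.symm ![p, q]

@[simp] theorem E_zero (p q : ℕ) : E p q 0 = p := rfl
@[simp] theorem E_one (p q : ℕ) : E p q 1 = q := rfl

theorem eq_E (d : Fin 2 →₀ ℕ) : d = E (d 0) (d 1) := by
  ext i
  fin_cases i <;> rfl

theorem E_eq_iff {p q p' q' : ℕ} : E p q = E p' q' ↔ p = p' ∧ q = q' :=
  ⟨fun h => ⟨by simpa using DFunLike.congr_fun h 0, by simpa using DFunLike.congr_fun h 1⟩,
    fun ⟨h, h'⟩ => h ▸ h' ▸ rfl⟩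

/-- The defining element `xy - r`. -/
noncomputable def rel (r : R) : MvPowerSeries (Fin 2) R := X 0 * X 1 - C r

theorem X_mul_X : (X 0 * X 1 : MvPowerSeries (Fin 2) R) = monomial (E 1 1) 1 := by
  rw [X_def, X_def, monomial_mul_monomial, one_mul]
  congr 2
  ext i
  fin_cases i <;> simp

theorem coeff_rel_mul (r : R) (h : MvPowerSeries (Fin 2) R) (p q : ℕ) :
    coeff (E p q) (rel r * h) =
      (if 1 ≤ p ∧ 1 ≤ q then coeff (E (p - 1) (q - 1)) h else 0) - r * coeff (E p q) h := by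
  classical
  rw [rel, sub_mul, map_sub, X_mul_X, coeff_monomial_mul, coeff_C_mul, one_mul]
  congr 1
  have hle : E 1 1 ≤ E p q ↔ 1 ≤ p ∧ 1 ≤ q := by
    refine ⟨fun h => ⟨by simpa using h 0, by simpa using h 1⟩, fun h i => ?_⟩
    fin_cases i
    · exact h.1
    · exact h.2
  simp only [hle]
  split_ifs with h1
  · congr 2
    ext i
    fin_cases i <;> simp
  · rfl

section Complete

variable [IsLocalRing R] {r : R}

theorem pow_mul_mem (hr : r ∈ maximalIdeal R) (k : ℕ) (x : R) : r ^ k * x ∈ maximalIdeal R ^ k :=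
  Ideal.mul_mem_right _ _ (Ideal.pow_mem_pow hr k)

variable [IsNoetherianRing R] [IsAdicComplete (maximalIdeal R) R]

omit [IsAdicComplete (maximalIdeal R) R] in
theorem eq_zero_of_forall_mem_pow {x : R} (h : ∀ n, x ∈ maximalIdeal R ^ n) : x = 0 := by
  have h1 : x ∈ ⨅ n, maximalIdeal R ^ n := Submodule.mem_iInf _ |>.2 h
  rwa [Ideal.iInf_pow_eq_bot_of_isLocalRing _ (Ideal.IsPrime.ne_top inferInstance),
    Submodule.mem_bot] at h1

omit [IsAdicComplete (maximalIdeal R) R] in
theorem mem_of_forall_mem_sup {J : Ideal R} {x : R} (hJ : J ≤ maximalIdeal R)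
    (h : ∀ n, x ∈ J ⊔ maximalIdeal R ^ n) : x ∈ J := by
  have : Nontrivial (R ⧸ J) := Ideal.Quotient.nontrivial_iff.2
    fun hJt => (maximalIdeal.isMaximal R).ne_top (top_le_iff.1 (hJt ▸ hJ))
  have : IsLocalRing (R ⧸ J) := .of_surjective' (Ideal.Quotient.mk J) Ideal.Quotient.mk_surjective
  rw [← Ideal.Quotient.eq_zero_iff_mem]
  refine eq_zero_of_forall_mem_pow (R := R ⧸ J) fun n => ?_
  obtain ⟨a, ha, b, hb, rfl⟩ := Submodule.mem_sup.1 (h n)
  rw [map_add, Ideal.Quotient.eq_zero_iff_mem.2 ha, zero_add]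
  have hmap : (maximalIdeal R).map (Ideal.Quotient.mk J) ≤ maximalIdeal (R ⧸ J) := by
    refine IsLocalRing.le_maximalIdeal fun ht => ?_
    have h1 := congrArg (Ideal.comap (Ideal.Quotient.mk J)) ht
    rw [Ideal.comap_map_of_surjective _ Ideal.Quotient.mk_surjective, Ideal.comap_top,
      show Ideal.comap (Ideal.Quotient.mk J) ⊥ = J from Ideal.mk_ker, sup_eq_left.2 hJ] at h1
    exact (maximalIdeal.isMaximal R).ne_top h1
  exact Ideal.pow_right_mono hmap n (by rw [← Ideal.map_pow]; exact Ideal.mem_map_of_mem _ hb)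

theorem exists_T (hr : r ∈ maximalIdeal R) (F : ℕ → ℕ → R) :
    ∃ G : ℕ → ℕ → R, ∀ p q, G p q = F p q + r * G (p + 1) (q + 1) := by
  let P : ℕ → ℕ → ℕ → R := fun p q N => ∑ j ∈ Finset.range N, r ^ j * F (p + j) (q + j)
  have hP : ∀ p q {N M : ℕ}, N ≤ M →
      P p q N ≡ P p q M [SMOD (maximalIdeal R ^ N • ⊤ : Submodule R R)] := by
    intro p q N M h
    rw [SModEq.sub_mem, smul_eq_mul, Ideal.mul_top, ← neg_mem_iff, neg_sub]
    show P p q M - P p q N ∈ maximalIdeal R ^ N
    rw [← Finset.sum_Ico_eq_sub _ h]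
    exact Ideal.sum_mem _ fun j hj =>
      Ideal.pow_le_pow_right (Finset.mem_Ico.1 hj).1 (pow_mul_mem hr j _)
  choose G hG using fun p q => IsPrecomplete.prec (I := maximalIdeal R) inferInstance (hP p q)
  refine ⟨G, fun p q => sub_eq_zero.1 (eq_zero_of_forall_mem_pow fun N => ?_)⟩
  have h1 := hG p q (N + 1)
  have h2 := hG (p + 1) (q + 1) N
  rw [SModEq.sub_mem, smul_eq_mul, Ideal.mul_top] at h1 h2
  have h3 : P p q (N + 1) = F p q + r * P (p + 1) (q + 1) N := by
    simp only [P, Finset.sum_range_succ', pow_zero, one_mul, add_zero, Finset.mul_sum]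
    rw [add_comm]
    refine congrArg (F p q + ·) (Finset.sum_congr rfl fun j _ => ?_)
    rw [pow_succ', mul_assoc, show p + 1 + j = p + (j + 1) by omega, show q + 1 + j = q + (j + 1) by omega]
  have h1' := Ideal.pow_le_pow_right (Nat.le_succ N) h1
  have : G p q - (F p q + r * G (p + 1) (q + 1)) =
      r * (P (p + 1) (q + 1) N - G (p + 1) (q + 1)) - (P p q (N + 1) - G p q) := by
    rw [h3]; ring
  rw [this]
  exact sub_mem (Ideal.mul_mem_left _ _ h2) h1'

variable (hr : r ∈ maximalIdeal R)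

/-- `∑ k, f (p+k, q+k) rᵏ`. -/
noncomputable def T (f : MvPowerSeries (Fin 2) R) : ℕ → ℕ → R :=
  (exists_T hr fun p q => coeff (E p q) f).choose

theorem T_rec (f : MvPowerSeries (Fin 2) R) (p q : ℕ) :
    T hr f p q = coeff (E p q) f + r * T hr f (p + 1) (q + 1) :=
  (exists_T hr fun p q => coeff (E p q) f).choose_spec p q

theorem T_eq (f : MvPowerSeries (Fin 2) R) (G : ℕ → ℕ → R)
    (hG : ∀ p q, G p q = coeff (E p q) f + r * G (p + 1) (q + 1)) (p q : ℕ) :
    T hr f p q = G p q := by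
  have key : ∀ k p q, T hr f p q - G p q ∈ maximalIdeal R ^ k := by
    intro k
    induction k with
    | zero => simp
    | succ k ih =>
      intro p q
      rw [T_rec, hG p q, add_sub_add_left_eq_sub, ← mul_sub, pow_succ']
      exact Ideal.mul_mem_mul hr (ih _ _)
  exact sub_eq_zero.1 (eq_zero_of_forall_mem_pow fun k => key k p q)

theorem T_iter (f : MvPowerSeries (Fin 2) R) (N p q : ℕ) :
    T hr f p q = (∑ j ∈ Finset.range N, r ^ j * coeff (E (p + j) (q + j)) f) +
      r ^ N * T hr f (p + N) (q + N) := by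
  induction N with
  | zero => simp
  | succ N ih =>
    rw [Finset.sum_range_succ, ih, T_rec hr f (p + N) (q + N), pow_succ]
    simp only [← add_assoc]
    ring

theorem T_eq_zero (f : MvPowerSeries (Fin 2) R) (p q : ℕ)
    (h : ∀ j, coeff (E (p + j) (q + j)) f = 0) : T hr f p q = 0 := by
  refine eq_zero_of_forall_mem_pow fun N => ?_
  rw [T_iter hr f N, Finset.sum_eq_zero fun j _ => by rw [h j, mul_zero], zero_add]
  exact pow_mul_mem hr N _

/-- The coefficients of the normal form. -/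
noncomputable def phi (f : MvPowerSeries (Fin 2) R) (i : ℤ) : R := T hr f i.toNat (-i).toNat

theorem phi_add (f g : MvPowerSeries (Fin 2) R) (i : ℤ) :
    phi hr (f + g) i = phi hr f i + phi hr g i :=
  T_eq hr _ (fun p q => T hr f p q + T hr g p q) (fun p q => by
    show T hr f p q + T hr g p q = _
    rw [map_add, T_rec hr f p q, T_rec hr g p q]
    ring) _ _

theorem phi_C_mul (c : R) (f : MvPowerSeries (Fin 2) R) (i : ℤ) :
    phi hr (C c * f) i = c * phi hr f i :=
  T_eq hr _ (fun p q => c * T hr f p q) (fun p q => by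
    show c * T hr f p q = _
    rw [coeff_C_mul, T_rec hr f p q]
    ring) _ _

theorem phi_C (c : R) (i : ℤ) : phi hr (C c) i = if i = 0 then c else 0 := by
  classical
  refine (T_eq hr _ (fun p q => if p = 0 ∧ q = 0 then c else 0) (fun p q => ?_) _ _).trans ?_
  · have hiff : E p q = 0 ↔ p = 0 ∧ q = 0 := by
      rw [show (0 : Fin 2 →₀ ℕ) = E 0 0 by ext i; fin_cases i <;> rfl, E_eq_iff]
    simp only [coeff_C, hiff]
    simp
  · have hiff : i.toNat = 0 ∧ (-i).toNat = 0 ↔ i = 0 := by omega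
    simp only [hiff]

theorem phi_rel_mul (h : MvPowerSeries (Fin 2) R) (i : ℤ) : phi hr (rel r * h) i = 0 := by
  refine (T_eq hr _ (fun p q => if 1 ≤ p ∧ 1 ≤ q then coeff (E (p - 1) (q - 1)) h else 0)
    (fun p q => ?_) _ _).trans (if_neg (by omega))
  rw [coeff_rel_mul]
  simp

theorem mem_span_of_phi_eq_zero (f : MvPowerSeries (Fin 2) R) (h : ∀ i, phi hr f i = 0) :
    f ∈ Ideal.span {rel r} := by
  let g : MvPowerSeries (Fin 2) R := fun d => T hr f (d 0 + 1) (d 1 + 1)
  have hg : ∀ p q, coeff (E p q) g = T hr f (p + 1) (q + 1) := fun p q => rfl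
  refine Ideal.mem_span_singleton.2 ⟨g, MvPowerSeries.ext fun d => ?_⟩
  rw [eq_E d]
  generalize d 0 = p
  generalize d 1 = q
  rw [coeff_rel_mul, hg, hg]
  have h0 := T_rec hr f p q
  split_ifs with hpq
  · rw [show p - 1 + 1 = p by omega, show q - 1 + 1 = q by omega]
    linear_combination -h0
  · have hi := h ((p : ℤ) - q)
    rw [phi, show ((p : ℤ) - q).toNat = p by omega, show (-((p : ℤ) - q)).toNat = q by omega] at hi
    rw [hi] at h0
    linear_combination -h0

theorem phi_congr {f g : MvPowerSeries (Fin 2) R} (h : f - g ∈ Ideal.span {rel r}) (i : ℤ) :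
    phi hr f i = phi hr g i := by
  obtain ⟨c, hc⟩ := Ideal.mem_span_singleton.1 h
  rw [show f = g + rel r * c by rw [← hc]; ring, phi_add, phi_rel_mul, add_zero]

theorem sub_mem_span_of_phi_eq (f g : MvPowerSeries (Fin 2) R) (h : ∀ i, phi hr f i = phi hr g i) :
    f - g ∈ Ideal.span {rel r} :=
  mem_span_of_phi_eq_zero hr _ fun i => by
    have h1 := phi_add hr (f - g) g i
    rw [sub_add_cancel, h i] at h1
    linear_combination -h1

/-- The series with given normal form coefficients. -/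
def normal (c : ℤ → R) : MvPowerSeries (Fin 2) R := fun d =>
  if d 0 = 0 ∨ d 1 = 0 then c ((d 0 : ℤ) - d 1) else 0

omit [IsLocalRing R] [IsNoetherianRing R] [IsAdicComplete (maximalIdeal R) R] in
theorem coeff_normal (c : ℤ → R) (p q : ℕ) :
    coeff (E p q) (normal c) = if p = 0 ∨ q = 0 then c ((p : ℤ) - q) else 0 := rfl

theorem phi_normal (c : ℤ → R) (i : ℤ) : phi hr (normal c) i = c i := by
  refine (T_eq hr _ (fun p q => coeff (E p q) (normal c)) (fun p q => ?_) _ _).trans ?_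
  · show _ = _ + r * coeff (E (p + 1) (q + 1)) (normal c)
    rw [coeff_normal c (p + 1), if_neg (by omega), mul_zero, add_zero]
  · rw [coeff_normal, if_pos (by omega)]
    congr 1
    omega

theorem phi_mul_normal (f g : MvPowerSeries (Fin 2) R) (i : ℤ) :
    phi hr (normal (phi hr f) * normal (phi hr g)) i = phi hr (f * g) i := by
  refine phi_congr hr ?_ i
  have h1 := sub_mem_span_of_phi_eq hr (normal (phi hr f)) f (phi_normal hr _)
  have h2 := sub_mem_span_of_phi_eq hr (normal (phi hr g)) g (phi_normal hr _)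
  rw [show normal (phi hr f) * normal (phi hr g) - f * g =
    (normal (phi hr f) - f) * normal (phi hr g) + f * (normal (phi hr g) - g) by ring]
  exact add_mem (Ideal.mul_mem_right _ _ h1) (Ideal.mul_mem_left _ _ h2)

section Weights

variable (v : AddValuation R ℕ∞) (al be : ℕ)

/-- The weight of a coefficient at position `(p, q)`. -/
def w (p q : ℕ) (x : R) : ℕ∞ := v x + ((al * p + be * q : ℕ) : ℕ∞)

omit [IsLocalRing R] [IsNoetherianRing R] [IsAdicComplete (maximalIdeal R) R] in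
theorem w_pow_mul {e : ℕ} (he : v r = e) (hab : al + be = e) (p q j : ℕ) (x : R) :
    w v al be p q (r ^ j * x) = w v al be (p + j) (q + j) x := by
  unfold w
  rw [v.map_mul, v.map_pow, he, add_comm (j • (e : ℕ∞)), add_assoc]
  congr 1
  rw [nsmul_eq_mul, ← Nat.cast_mul, ← Nat.cast_add]
  congr 1
  subst hab
  ring

omit [IsLocalRing R] [IsNoetherianRing R] [IsAdicComplete (maximalIdeal R) R] in
theorem w_sum_ge {ι : Type*} {M : ℕ∞} {p q : ℕ} {s : Finset ι} {x : ι → R}
    (h : ∀ j ∈ s, M ≤ w v al be p q (x j)) : M ≤ w v al be p q (∑ j ∈ s, x j) := by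
  classical
  induction s using Finset.induction_on with
  | empty => simp [w]
  | insert a s ha ih =>
    rw [Finset.sum_insert ha]
    refine le_trans (le_min (h a (Finset.mem_insert_self _ _))
      (ih fun j hj => h j (Finset.mem_insert_of_mem hj))) ?_
    unfold w
    rw [min_add_add_right]
    exact add_le_add_left (v.map_add _ _) _

omit [IsLocalRing R] [IsNoetherianRing R] [IsAdicComplete (maximalIdeal R) R] in
theorem w_add_eq {M : ℕ} {p q : ℕ} {x y : R} (hx : w v al be p q x = M)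
    (hy : ((M + 1 : ℕ) : ℕ∞) ≤ w v al be p q y) : w v al be p q (x + y) = M := by
  have hlt : v x < v y := by
    by_contra hle
    have h1 : w v al be p q y ≤ w v al be p q x := add_le_add_left (not_lt.1 hle) _
    rw [hx] at h1
    have := Nat.cast_le.1 (hy.trans h1)
    omega
  rw [← hx]
  unfold w
  rw [AddValuation.map_add_eq_of_lt_left v hlt]

/-- A minimal weight coefficient, extremal in the direction `sg`. -/
def IsMinIdx (c : ℤ → R) (sg : ℤ) (i₀ : ℤ) (M : ℕ) : Prop :=
  w v al be i₀.toNat (-i₀).toNat (c i₀) = M ∧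
    (∀ i, (M : ℕ∞) ≤ w v al be i.toNat (-i).toNat (c i)) ∧
    ∀ i, sg * i < sg * i₀ → ((M + 1 : ℕ) : ℕ∞) ≤ w v al be i.toNat (-i).toNat (c i)

omit [IsLocalRing R] [IsNoetherianRing R] [IsAdicComplete (maximalIdeal R) R] in
/-- Existence of extremal minimal indices, when the weight grows in the direction `-sg`. -/
theorem exists_minIdx (c : ℤ → R) (hc : ∃ i, v (c i) ≠ ⊤) (sg : ℤ)
    (hsg : (sg = 1 ∧ 0 < be) ∨ (sg = -1 ∧ 0 < al)) :
    ∃ i₀ M, IsMinIdx v al be c sg i₀ M := by
  classical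
  let W : ℤ → ℕ∞ := fun i => w v al be i.toNat (-i).toNat (c i)
  have hne : ∃ M : ℕ, ∃ i, W i = M := by
    obtain ⟨i, hi⟩ := hc
    obtain ⟨n, hn⟩ := ENat.ne_top_iff_exists.1 hi
    exact ⟨n + (al * i.toNat + be * (-i).toNat), i, by simp [W, w, ← hn]⟩
  have hMle : ∀ i, ((Nat.find hne : ℕ) : ℕ∞) ≤ W i := fun i => by
    by_cases htop : W i = ⊤
    · rw [htop]; exact le_top
    obtain ⟨n, hn⟩ := ENat.ne_top_iff_exists.1 htop
    rw [← hn]
    exact Nat.cast_le.2 (Nat.find_le ⟨i, hn.symm⟩)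
  set M := Nat.find hne
  obtain ⟨i₁, hi₁⟩ := Nat.find_spec hne
  have hbd : ∀ i, W i = M → -(M : ℤ) ≤ sg * i := by
    intro i hi
    have h1 : ((al * i.toNat + be * (-i).toNat : ℕ) : ℕ∞) ≤ W i := le_add_self
    rw [hi] at h1
    have h2 := Nat.cast_le.1 h1
    rcases hsg with ⟨rfl, hb⟩ | ⟨rfl, ha⟩
    · have h3 : (-i).toNat ≤ be * (-i).toNat := Nat.le_mul_of_pos_left _ hb
      omega
    · have h3 : i.toNat ≤ al * i.toNat := Nat.le_mul_of_pos_left _ ha
      omega
  obtain ⟨z, ⟨i₀, hi₀, rfl⟩, hz⟩ := Int.exists_least_of_bdd (P := fun z => ∃ i, W i = M ∧ z = sg * i)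
    ⟨-(M : ℤ), fun z ⟨i, hi, hz⟩ => hz ▸ hbd i hi⟩ ⟨sg * i₁, i₁, hi₁, rfl⟩
  refine ⟨i₀, M, hi₀, hMle, fun i hi => ?_⟩
  rcases eq_or_lt_of_le (hMle i) with h | h
  · exact absurd (hz _ ⟨i, h.symm, rfl⟩) (by omega)
  · rw [Nat.cast_add, Nat.cast_one]
    exact Order.add_one_le_of_lt h

omit [IsLocalRing R] [IsNoetherianRing R] [IsAdicComplete (maximalIdeal R) R] in
theorem w_mul (p q p' q' : ℕ) (x y : R) :
    w v al be (p + p') (q + q') (x * y) = w v al be p q x + w v al be p' q' y := by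
  unfold w
  rw [v.map_mul, show al * (p + p') + be * (q + q') = (al * p + be * q) + (al * p' + be * q') by ring,
    Nat.cast_add]
  ac_rfl

/-- **Gauss**: the weights of the extremal coefficients add up on a product. -/
theorem w_phi_mul {e : ℕ} (he : v r = e) (he0 : 0 < e) (hab : al + be = e) {c d : ℤ → R}
    {sg i₀ j₀ : ℤ} (hsg : sg = 1 ∨ sg = -1) {M N : ℕ}
    (hc : IsMinIdx v al be c sg i₀ M) (hd : IsMinIdx v al be d sg j₀ N) :
    w v al be (i₀ + j₀).toNat (-(i₀ + j₀)).toNat (phi hr (normal c * normal d) (i₀ + j₀)) =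
      ((M + N : ℕ) : ℕ∞) := by
  classical
  let p := (i₀ + j₀).toNat
  let q := (-(i₀ + j₀)).toNat
  let P := i₀.toNat + j₀.toNat
  let Q := (-i₀).toNat + (-j₀).toNat
  obtain ⟨j', hP, hQ⟩ : ∃ j', P = p + j' ∧ Q = q + j' := ⟨P - p, by omega, by omega⟩
  -- weights of the coefficients on the diagonal
  have key : ∀ p' q' : ℕ, (p' : ℤ) - q' = i₀ + j₀ → ∀ x ∈ Finset.HasAntidiagonal.antidiagonal (E p' q'),
      ¬ (x.1 = E i₀.toNat (-i₀).toNat ∧ x.2 = E j₀.toNat (-j₀).toNat) →
      ((M + N + 1 : ℕ) : ℕ∞) ≤ w v al be p' q' (coeff x.1 (normal c) * coeff x.2 (normal d)) := by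
    intro p' q' hd' x hx hne
    rw [Finset.HasAntidiagonal.mem_antidiagonal] at hx
    obtain ⟨p₁, q₁, hx1⟩ : ∃ a b, x.1 = E a b := ⟨_, _, eq_E _⟩
    obtain ⟨p₂, q₂, hx2⟩ : ∃ a b, x.2 = E a b := ⟨_, _, eq_E _⟩
    rw [hx1, hx2] at hx hne ⊢
    have e0 : p₁ + p₂ = p' := by simpa using DFunLike.congr_fun hx 0
    have e1 : q₁ + q₂ = q' := by simpa using DFunLike.congr_fun hx 1
    subst e0 e1
    rw [w_mul, coeff_normal, coeff_normal]
    by_cases hz1 : p₁ = 0 ∨ q₁ = 0
    swap
    · rw [if_neg hz1]; simp [w]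
    by_cases hz2 : p₂ = 0 ∨ q₂ = 0
    swap
    · rw [if_neg hz2]; simp [w]
    rw [if_pos hz1, if_pos hz2]
    have h1 := hc.2.1 ((p₁ : ℤ) - q₁)
    have h2 := hd.2.1 ((p₂ : ℤ) - q₂)
    have h1' := hc.2.2 ((p₁ : ℤ) - q₁)
    have h2' := hd.2.2 ((p₂ : ℤ) - q₂)
    rw [show ((p₁ : ℤ) - q₁).toNat = p₁ by omega, show (-((p₁ : ℤ) - q₁)).toNat = q₁ by omega] at h1 h1'
    rw [show ((p₂ : ℤ) - q₂).toNat = p₂ by omega, show (-((p₂ : ℤ) - q₂)).toNat = q₂ by omega] at h2 h2'
    rw [E_eq_iff, E_eq_iff] at hne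
    by_cases hi : sg * ((p₁ : ℤ) - q₁) < sg * i₀
    · calc ((M + N + 1 : ℕ) : ℕ∞) = ((M + 1 : ℕ) : ℕ∞) + (N : ℕ∞) := by push_cast; ring
        _ ≤ _ := add_le_add (h1' hi) h2
    · have hj : sg * ((p₂ : ℤ) - q₂) < sg * j₀ := by
        rcases hsg with rfl | rfl <;> omega
      calc ((M + N + 1 : ℕ) : ℕ∞) = (M : ℕ∞) + ((N + 1 : ℕ) : ℕ∞) := by push_cast; ring
        _ ≤ _ := add_le_add h1 (h2' hj)
  let x₀ : (Fin 2 →₀ ℕ) × (Fin 2 →₀ ℕ) := (E i₀.toNat (-i₀).toNat, E j₀.toNat (-j₀).toNat)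
  have hx₀ : x₀ ∈ Finset.HasAntidiagonal.antidiagonal (E P Q) := by
    rw [Finset.HasAntidiagonal.mem_antidiagonal]
    ext i
    fin_cases i <;> simp [x₀, P, Q]
  have hmain : w v al be P Q (coeff (E P Q) (normal c * normal d)) = ((M + N : ℕ) : ℕ∞) := by
    rw [coeff_mul, ← Finset.add_sum_erase _ _ hx₀]
    refine w_add_eq v al be ?_ (w_sum_ge v al be fun x hx => key P Q (by omega) x
      (Finset.mem_of_mem_erase hx) fun h => Finset.ne_of_mem_erase hx (Prod.ext h.1 h.2))
    show w v al be (i₀.toNat + j₀.toNat) ((-i₀).toNat + (-j₀).toNat) _ = _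
    rw [w_mul, coeff_normal, coeff_normal, if_pos (by omega), if_pos (by omega),
      show ((i₀.toNat : ℕ) : ℤ) - (-i₀).toNat = i₀ by omega,
      show ((j₀.toNat : ℕ) : ℤ) - (-j₀).toNat = j₀ by omega, hc.1, hd.1, Nat.cast_add]
  -- the tail of the series
  let K := j' + (M + N + 1) + 1
  rw [show phi hr (normal c * normal d) (i₀ + j₀) = T hr (normal c * normal d) p q from rfl,
    T_iter hr _ K p q, ← Finset.add_sum_erase _ _ (Finset.mem_range.2 (show j' < K by omega)),
    add_assoc]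
  refine w_add_eq v al be ?_ ?_
  · rw [w_pow_mul v al be he hab, ← hP, ← hQ]
    exact hmain
  · have hw : ∀ a b : R, ((M + N + 1 : ℕ) : ℕ∞) ≤ w v al be p q a →
        ((M + N + 1 : ℕ) : ℕ∞) ≤ w v al be p q b →
        ((M + N + 1 : ℕ) : ℕ∞) ≤ w v al be p q (a + b) := fun a b ha hb => by
      have := w_sum_ge v al be (s := (Finset.univ : Finset Bool))
        (x := fun t => if t then a else b) (M := ((M + N + 1 : ℕ) : ℕ∞)) (p := p) (q := q)
        fun t _ => by cases t <;> simpa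
      simpa [Fintype.sum_bool] using this
    refine hw _ _ (w_sum_ge v al be fun j hj => ?_) ?_
    · rw [w_pow_mul v al be he hab, coeff_mul]
      refine w_sum_ge v al be fun x hx => key _ _ (by omega) x hx fun h => ?_
      rw [Finset.HasAntidiagonal.mem_antidiagonal, h.1, h.2] at hx
      have e0 : P = p + j := by simpa [P] using DFunLike.congr_fun hx 0
      exact Finset.ne_of_mem_erase hj (by omega)
    · rw [w_pow_mul v al be he hab]
      refine le_trans ?_ (le_add_self (a := ((al * (p + K) + be * (q + K) : ℕ) : ℕ∞)))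
      refine Nat.cast_le.2 ?_
      have h1 : K ≤ (al + be) * K := Nat.le_mul_of_pos_left _ (by omega)
      calc M + N + 1 ≤ (al + be) * K := le_trans (show M + N + 1 ≤ K by omega) h1
        _ ≤ al * (p + K) + be * (q + K) := by
          rw [add_mul]
          exact add_le_add (Nat.mul_le_mul_left _ (Nat.le_add_left _ _)) (Nat.mul_le_mul_left _ (Nat.le_add_left _ _))

end Weights

end Complete

end Groth.Agent.CAlg99.NodeSeries
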