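import Groth.Agent.RegLoc.Serre
import Groth.Agent.EGA4Lib.FibreComp
import Groth.Agent.GeomFieldLib.NormalRing
import Groth.Prelude.Def_EGA4b

/-!
# Descent of normality along a finite injective extension after a flat base change

If `R` is a normal Noetherian ring, `R ⊆ C` is integral with `C` normal, `S` is a flat Noetherian
`R`-algebra and `C ⊗[R] S` is normal, then `S` is normal.
-/

set_option autoImplicit false
set_option linter.style.haveILetI false

universe u

open TensorProduct IsLocalRing

namespace Groth.Agent.CAlg99.NormalCompl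

variable {R C S : Type u} [CommRing R] [CommRing C] [CommRing S] [Algebra R C] [Algebra R S]

/-- Over a prime where `R_p` is a principal ideal domain, normality descends from `C ⊗[R] S`. -/
theorem normal_atPrime_of_principal [Algebra.IsIntegral R C]
    (hinj : Function.Injective (algebraMap R C)) (hC : EGA4.IsNormalRing C)
    (hT : EGA4.IsNormalRing (C ⊗[R] S)) (p : Ideal R) [p.IsPrime]
    [IsDomain (Localization.AtPrime p)] [IsPrincipalIdealRing (Localization.AtPrime p)]
    (q : Ideal S) [q.IsPrime] (hpq : q.comap (algebraMap R S) = p) :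
    IsDomain (Localization.AtPrime q) ∧ IsIntegrallyClosed (Localization.AtPrime q) := by
  let Rp := Localization.AtPrime p
  let K : Ideal R := RingHom.ker (algebraMap R Rp)
  have hKprime : K.IsPrime := RingHom.ker_isPrime _
  have hKp : K ≤ p := fun x hx => by
    obtain ⟨s, hs⟩ := (IsLocalization.map_eq_zero_iff p.primeCompl _ x).mp hx
    exact ((inferInstance : p.IsPrime).mem_or_mem (hs ▸ p.zero_mem)).resolve_left s.2
  obtain ⟨P, -, hP, hPK⟩ := Ideal.exists_ideal_over_prime_of_isIntegral K (⊥ : Ideal C)
    (fun x hx => by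
      rw [Ideal.mem_comap, Submodule.mem_bot] at hx
      rw [hinj (hx.trans (map_zero _).symm)]
      exact K.zero_mem)
  obtain ⟨P0, hPP0, hP0, hP0p⟩ := Ideal.exists_ideal_over_prime_of_isIntegral p P (hPK.le.trans hKp)
  let L := Localization.AtPrime P0
  haveI : IsDomain L := (hC P0).1
  letI : Algebra Rp L := (Localization.localRingHom p P0 (algebraMap R C) hP0p.symm).toAlgebra
  haveI : IsScalarTower R Rp L := IsScalarTower.of_algebraMap_eq fun x => by
    rw [RingHom.algebraMap_toAlgebra, Localization.localRingHom_to_map,
      ← IsScalarTower.algebraMap_apply]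
  have hinjL : Function.Injective (algebraMap Rp L) := by
    refine (injective_iff_map_eq_zero _).2 fun z hz => ?_
    obtain ⟨⟨r, s⟩, hrs⟩ := IsLocalization.surj p.primeCompl z
    have h1 : algebraMap R L r = 0 := by
      rw [IsScalarTower.algebraMap_apply R Rp L, ← hrs, map_mul, hz, zero_mul]
    rw [IsScalarTower.algebraMap_apply R C L] at h1
    obtain ⟨c, hc⟩ := (IsLocalization.map_eq_zero_iff P0.primeCompl L _).mp h1
    have h2 : algebraMap R C r ∈ P :=
      (hP.mem_or_mem (hc ▸ P.zero_mem)).resolve_left fun h => c.2 (hPP0 h)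
    have h3 : r ∈ K := hPK ▸ h2
    have h4 : algebraMap R Rp r = 0 := h3
    rw [← hrs] at h4
    exact (IsLocalization.map_units Rp s).mul_left_eq_zero.1 h4
  haveI : Module.IsTorsionFree Rp L :=
    Module.isTorsionFree_iff_algebraMap_injective.2 hinjL
  haveI : Module.Flat Rp L := inferInstance
  haveI : IsLocalHom (algebraMap Rp L) := Localization.isLocalHom_localRingHom _ _ _ hP0p.symm
  haveI : Module.FaithfullyFlat Rp L := Module.FaithfullyFlat.of_flat_of_isLocalHom
  -- `L ⊗[R] S` is a localisation of `C ⊗[R] S`
  have hLS : EGA4.IsNormalRing (L ⊗[R] S) := by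
    have h1 : EGA4.IsNormalRing ((C ⊗[R] S) ⊗[C] L) :=
      EGA4Lib.isNormalRing_of_isLocalization
        (Algebra.algebraMapSubmonoid (C ⊗[R] S) P0.primeCompl) hT
    exact EGA4Lib.isNormalRing_of_ringEquiv
      ((Algebra.TensorProduct.comm C (C ⊗[R] S) L).toRingEquiv.trans
        (Algebra.TensorProduct.cancelBaseChange R C C L S).toRingEquiv) h1
  have hS' : EGA4.IsNormalRing (Rp ⊗[R] S) := by
    have h1 : EGA4.IsNormalRing ((Rp ⊗[R] S) ⊗[Rp] L) :=
      EGA4Lib.isNormalRing_of_ringEquiv
        ((Algebra.TensorProduct.comm Rp (Rp ⊗[R] S) L).toRingEquiv.trans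
          (Algebra.TensorProduct.cancelBaseChange R Rp Rp L S).toRingEquiv).symm hLS
    exact EGA4Lib.isNormalRing_of_faithfullyFlat (Rp ⊗[R] S) ((Rp ⊗[R] S) ⊗[Rp] L) h1
  have hS'' : EGA4.IsNormalRing (S ⊗[R] Rp) :=
    EGA4Lib.isNormalRing_of_ringEquiv (Algebra.TensorProduct.comm R Rp S).toRingEquiv hS'
  have hd : Disjoint ((Algebra.algebraMapSubmonoid S p.primeCompl : Submonoid S) : Set S) (q : Set S) := by
    rw [Set.disjoint_left]
    rintro _ ⟨x, hx, rfl⟩ hxq
    exact hx (by rw [← hpq]; exact hxq)
  obtain ⟨Q, _, -, ⟨e⟩⟩ := GeomFieldLib.exists_localization_equiv (T := S ⊗[R] Rp)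
    (Algebra.algebraMapSubmonoid S p.primeCompl) q hd
  exact GeomFieldLib.isDomain_isIC_congr e (hS'' Q)

/-- Normality of a flat Noetherian algebra descends from its base change to an integral extension. -/
theorem isNormalRing_of_integral_extension [IsNoetherianRing R] [IsNoetherianRing S] [Module.Flat R S]
    [Algebra.IsIntegral R C] (hinj : Function.Injective (algebraMap R C))
    (hR : EGA4.IsNormalRing R) (hC : EGA4.IsNormalRing C)
    (hT : EGA4.IsNormalRing (C ⊗[R] S)) : EGA4.IsNormalRing S := by
  suffices ∀ (n : ℕ) (q : Ideal S) [q.IsPrime], q.height ≤ n →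
      IsDomain (Localization.AtPrime q) ∧ IsIntegrallyClosed (Localization.AtPrime q) by
    intro q _
    obtain ⟨n, hn⟩ := ENat.ne_top_iff_exists.mp (Ideal.height_ne_top_of_isPrime (I := q))
    exact this n q hn.ge
  intro n
  induction n using Nat.strong_induction_on with
  | _ n ih =>
    intro q _ hq
    let p := q.comap (algebraMap R S)
    haveI := (hR p).1
    haveI := (hR p).2
    by_cases hm : (maximalIdeal (Localization.AtPrime p)).IsPrincipal
    · haveI : IsPrincipalIdealRing (Localization.AtPrime p) :=
        ((tfae_of_isNoetherianRing_of_isLocalRing_of_isDomain (Localization.AtPrime p)).out 0 4).mpr hm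
      exact normal_atPrime_of_principal hinj hC hT p q rfl
    letI : Algebra (Localization.AtPrime p) (Localization.AtPrime q) :=
      (Localization.localRingHom p q (algebraMap R S) rfl).toAlgebra
    haveI : IsLocalHom (algebraMap (Localization.AtPrime p) (Localization.AtPrime q)) :=
      Localization.isLocalHom_localRingHom _ _ _ rfl
    haveI : Module.Flat (Localization.AtPrime p) (Localization.AtPrime q) :=
      RingHom.flat_algebraMap_iff.1 (RingHom.Flat.localRingHom (f := algebraMap R S)
        (RingHom.flat_algebraMap_iff.2 inferInstance) q _ rfl)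
    have hdepth : 2 ≤ LocCoh.depth (Localization.AtPrime q) (Localization.AtPrime q) := by
      have h := RegLoc.Serre.two_le_depth hm
      rw [Depth.depth_eq_idealDepth] at h ⊢
      exact h.trans ((Depth.idealDepth_le_idealDepth_of_isBaseChange
        (IsBaseChange.linearMap (Localization.AtPrime p) (Localization.AtPrime q))).trans
          (Depth.idealDepth_mono
            (((IsLocalRing.local_hom_TFAE (algebraMap (Localization.AtPrime p) (Localization.AtPrime q))).out 0 2).mp
              ‹_›)))
    have H : ∀ (q' : Ideal (Localization.AtPrime q)) [q'.IsPrime],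
        q' ≠ maximalIdeal (Localization.AtPrime q) →
        IsDomain (Localization.AtPrime q') ∧ IsIntegrallyClosed (Localization.AtPrime q') := by
      intro q' _ hq'
      let q₀ := q'.comap (algebraMap S (Localization.AtPrime q))
      have hlt : q₀ < q := by
        refine lt_of_le_of_ne ?_ ?_
        · exact (Ideal.comap_mono (IsLocalRing.le_maximalIdeal (Ideal.IsPrime.ne_top ‹_›))).trans
            (le_of_eq (Localization.AtPrime.under_maximalIdeal (I := q)))
        · intro he
          apply hq'
          rw [← IsLocalization.map_under q.primeCompl (Localization.AtPrime q) q',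
            ← Localization.AtPrime.map_eq_maximalIdeal (I := q)]
          exact congrArg _ he
      have hh := (Ideal.height_strict_mono_of_isPrime hlt).trans_le hq
      obtain ⟨m, hm'⟩ := ENat.ne_top_iff_exists.mp (ne_top_of_lt hh)
      obtain ⟨hd, hic⟩ := ih m (by rw [← hm'] at hh; exact_mod_cast hh) q₀ hm'.ge
      haveI : IsLocalization.AtPrime (Localization.AtPrime q') q₀ :=
        IsLocalization.isLocalization_isLocalization_atPrime_isLocalization
          (M := q.primeCompl) (Localization.AtPrime q') q'
      let e := (IsLocalization.algEquiv q₀.primeCompl (Localization.AtPrime q₀)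
        (Localization.AtPrime q')).toRingEquiv
      exact ⟨e.symm.toMulEquiv.isDomain _, IsIntegrallyClosed.of_equiv e⟩
    haveI := RegLoc.Serre.isDomain_of_depth hdepth fun q' _ hq' => (H q' hq').1
    exact ⟨inferInstance,
      RegLoc.Serre.isIntegrallyClosed_of_depth hdepth fun q' _ hq' => (H q' hq').2⟩

end Groth.Agent.CAlg99.NormalCompl
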