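import Groth.Agent.Gor.Basic
import Groth.Agent.Gor.Ring
import Mathlib.LinearAlgebra.Dual.Defs
import Mathlib.Algebra.Module.FinitePresentation
import Mathlib.RingTheory.Localization.Module
import Mathlib.RingTheory.TensorProduct.IsBaseChangePi
import Mathlib.RingTheory.KrullDimension.Basic
import Mathlib.RingTheory.Ideal.Height
import Mathlib.Algebra.Homology.DerivedCategory.Ext.EnoughProjectives
import Mathlib.Algebra.Category.ModuleCat.Projective
import Mathlib.Algebra.Homology.ShortComplex.ModuleCat

/-!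
Torsionless modules over Gorenstein rings of dimension at most one are reflexive.
-/

set_option autoImplicit false

universe u

open CategoryTheory

namespace Groth.Agent.CAlg99.Torsionless

variable {R : Type u} [CommRing R]

/-- With injective dimension at most one, a form on the kernel of a map into a projective extends. -/
theorem exists_extend_of_id [HasInjectiveDimensionLT (ModuleCat.of R R) 2] {E F : Type u} [AddCommGroup E]
    [Module R E] [AddCommGroup F] [Module R F] [Module.Projective R F] (φ : E →ₗ[R] F)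
    (f : LinearMap.ker φ →ₗ[R] R) :
    ∃ g : E →ₗ[R] R, ∀ (x : E) (hx : x ∈ LinearMap.ker φ), g x = f ⟨x, hx⟩ := by
  let φ' : E →ₗ[R] LinearMap.range φ := φ.rangeRestrict
  have hS₁ := LinearMap.shortExact_shortComplexKer φ.surjective_rangeRestrict
  have hS₂ := LinearMap.shortExact_shortComplexKer (LinearMap.range φ).mkQ_surjective
  have hker : LinearMap.ker φ' = LinearMap.ker φ := φ.ker_rangeRestrict
  have hker₂ : LinearMap.ker (LinearMap.range φ).mkQ = LinearMap.range φ := Submodule.ker_mkQ _
  have h0 : ∀ x : Abelian.Ext (ModuleCat.of R (LinearMap.range φ)) (ModuleCat.of R R) 1, x = 0 := by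
    intro x
    let e : ModuleCat.of R (LinearMap.ker (LinearMap.range φ).mkQ) ≅ ModuleCat.of R (LinearMap.range φ) :=
      (LinearEquiv.ofEq _ _ hker₂).toModuleIso
    let x' := (Abelian.Ext.mk₀ e.hom).comp x (zero_add 1)
    have h1 : hS₂.extClass.comp x' (show 1 + 1 = 2 from rfl) = 0 :=
      Abelian.Ext.eq_zero_of_hasInjectiveDimensionLT _ 2 le_rfl
    obtain ⟨y, hy⟩ := Abelian.Ext.contravariant_sequence_exact₁ hS₂ _ x' (show 1 + 1 = 2 from rfl) h1
    haveI : Projective ((LinearMap.range φ).mkQ.shortComplexKer.X₂) :=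
      (inferInstance : Projective (ModuleCat.of R F))
    rw [Abelian.Ext.eq_zero_of_projective y, Abelian.Ext.comp_zero] at hy
    have hx' : (Abelian.Ext.mk₀ e.inv).comp x' (zero_add 1) = x := by
      simp only [x', Abelian.Ext.mk₀_comp_mk₀_assoc, Iso.inv_hom_id, Abelian.Ext.mk₀_id_comp]
    rw [← hx', ← hy, Abelian.Ext.comp_zero]
  let f' : LinearMap.ker φ' →ₗ[R] R := f ∘ₗ (LinearEquiv.ofEq _ _ hker).toLinearMap
  let x₁ : Abelian.Ext (φ'.shortComplexKer.X₁) (ModuleCat.of R R) 0 := Abelian.Ext.mk₀ (ModuleCat.ofHom f')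
  obtain ⟨y, hy⟩ := Abelian.Ext.contravariant_sequence_exact₁ hS₁ _ x₁ (add_zero 1) (h0 _)
  obtain ⟨g, rfl⟩ := (Abelian.Ext.mk₀_bijective _ _).2 y
  rw [Abelian.Ext.mk₀_comp_mk₀] at hy
  refine ⟨g.hom, fun x hx => ?_⟩
  exact LinearMap.congr_fun (congrArg ModuleCat.Hom.hom ((Abelian.Ext.mk₀_bijective _ _).1 hy))
    ⟨x, hker ▸ hx⟩

theorem hasInjectiveDimensionLT_two_localization [LocCoh.IsGorensteinRing R] (hdim : ringKrullDim R ≤ 1)
    (P : Ideal R) [P.IsPrime] :
    HasInjectiveDimensionLT (ModuleCat.of (Localization.AtPrime P) (Localization.AtPrime P)) 2 := by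
  haveI := (inferInstance : LocCoh.IsGorensteinRing R).isGorensteinLocalRing_localization P
  obtain ⟨d, hd⟩ := Groth.Agent.Gor.Basic.exists_natCast_ringKrullDim (A := Localization.AtPrime P)
  haveI := Groth.Agent.Gor.Basic.hasInjectiveDimensionLT_dim (A := Localization.AtPrime P) hd
  have h1 : ringKrullDim (Localization.AtPrime P) ≤ 1 := by
    rw [IsLocalization.AtPrime.ringKrullDim_eq_height P (Localization.AtPrime P)]
    exact (Ideal.height_le_ringKrullDim_of_ne_top (Ideal.IsPrime.ne_top inferInstance)).trans hdim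
  rw [hd] at h1
  exact hasInjectiveDimensionLT_of_ge _ (d + 1) 2 (by
    have : d ≤ 1 := by exact_mod_cast h1
    omega)

/-- Forms on a submodule with torsionless quotient extend. -/
theorem exists_extend [LocCoh.IsGorensteinRing R] (hdim : ringKrullDim R ≤ 1) {E : Type u} [AddCommGroup E]
    [Module R E] [Module.Finite R E] {n : ℕ} (φ : E →ₗ[R] (Fin n → R)) (f : LinearMap.ker φ →ₗ[R] R) :
    ∃ g : E →ₗ[R] R, ∀ (x : E) (hx : x ∈ LinearMap.ker φ), g x = f ⟨x, hx⟩ := by
  classical
  let T : Ideal R :=
    { carrier := {t | ∃ g : E →ₗ[R] R, ∀ (x : E) (hx : x ∈ LinearMap.ker φ), g x = t * f ⟨x, hx⟩}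
      add_mem' := fun {a b} ⟨g, hg⟩ ⟨g', hg'⟩ => ⟨g + g', fun x hx => by simp [hg x hx, hg' x hx, add_mul]⟩
      zero_mem' := ⟨0, fun x hx => by simp⟩
      smul_mem' := fun c a ⟨g, hg⟩ => ⟨c • g, fun x hx => by simp [hg x hx, mul_assoc]⟩ }
  suffices h : (1 : R) ∈ T by
    obtain ⟨g, hg⟩ := h
    exact ⟨g, fun x hx => by simpa using hg x hx⟩
  by_contra hne
  obtain ⟨P, hP, hle⟩ := Ideal.exists_le_maximal T ((Ideal.ne_top_iff_one T).mpr hne)
  let S := P.primeCompl
  let A := Localization.AtPrime P
  haveI := hasInjectiveDimensionLT_two_localization hdim P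
  let lE := LocalizedModule.mkLinearMap S E
  let lF : (Fin n → R) →ₗ[R] (Fin n → A) := LinearMap.pi fun i => (Algebra.linearMap R A).comp (LinearMap.proj i)
  haveI : IsLocalizedModule S lF := inferInstanceAs
    (IsLocalizedModule S (LinearMap.pi fun i : Fin n => (Algebra.linearMap R A).comp (LinearMap.proj i)))
  let φP : LocalizedModule S E →ₗ[A] (Fin n → A) :=
    LinearMap.extendScalarsOfIsLocalization S A (IsLocalizedModule.lift S lE (lF.comp φ)
      (fun s => IsLocalizedModule.map_units (S := S) lF s))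
  have hφP : ∀ x, φP (lE x) = lF (φ x) := fun x =>
    IsLocalizedModule.lift_apply S lE (lF.comp φ) (fun s => IsLocalizedModule.map_units (S := S) lF s) x
  let K := LinearMap.ker φ
  let lK : K →ₗ[R] LinearMap.ker φP :=
    LinearMap.codRestrict ((LinearMap.ker φP).restrictScalars R) (lE.comp K.subtype) fun x => by
      simp only [Submodule.restrictScalars_mem, LinearMap.mem_ker, LinearMap.comp_apply, Submodule.subtype_apply, hφP]
      rw [show φ (x : E) = 0 from x.2, map_zero]
  haveI : IsLocalizedModule S lK := by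
    refine ⟨fun s => ?_, fun z => ?_, fun {a b} h => ?_⟩
    · have hu : IsUnit (algebraMap R A s) := IsLocalization.map_units A s
      refine (Module.End.isUnit_iff _).mpr ⟨fun a b h => ?_, fun a => ⟨(↑hu.unit⁻¹ : A) • a, ?_⟩⟩
      · simp only [Module.algebraMap_end_apply] at h
        rw [← algebraMap_smul A (s : R), ← algebraMap_smul A (s : R) b] at h
        exact hu.smul_left_cancel.mp h
      · simp only [Module.algebraMap_end_apply]
        rw [← algebraMap_smul A (s : R), smul_smul, IsUnit.mul_val_inv, one_smul]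
    · obtain ⟨⟨x, s⟩, hxs⟩ := IsLocalizedModule.surj S lE (z : LocalizedModule S E)
      have h0 : lF (φ x) = 0 := by
        rw [← hφP, ← hxs, Submonoid.smul_def, LinearMap.map_smul_of_tower]
        rw [show φP (z : LocalizedModule S E) = 0 from z.2, smul_zero]
      obtain ⟨c, hc⟩ := (IsLocalizedModule.eq_zero_iff S lF).mp h0
      refine ⟨⟨⟨(c : R) • x, ?_⟩, c * s⟩, Subtype.ext ?_⟩
      · show φ ((c : R) • x) = 0
        rw [map_smul]; exact hc
      · show (c * s) • (z : LocalizedModule S E) = lE ((c : R) • x)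
        rw [mul_smul, hxs, map_smul]; rfl
    · obtain ⟨c, hc⟩ := (IsLocalizedModule.eq_iff_exists S lE).mp (congrArg Subtype.val h)
      exact ⟨c, Subtype.ext hc⟩
  let fP : LinearMap.ker φP →ₗ[A] A :=
    LinearMap.extendScalarsOfIsLocalization S A (IsLocalizedModule.lift S lK ((Algebra.linearMap R A).comp f)
      (fun s => IsLocalizedModule.map_units (S := S) (Algebra.linearMap R A) s))
  have hfP : ∀ x : K, fP (lK x) = algebraMap R A (f x) := fun x =>
    IsLocalizedModule.lift_apply S lK ((Algebra.linearMap R A).comp f)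
      (fun s => IsLocalizedModule.map_units (S := S) (Algebra.linearMap R A) s) x
  obtain ⟨gP, hgP⟩ := exists_extend_of_id φP fP
  haveI : IsNoetherianRing R := inferInstance
  haveI : Module.FinitePresentation R E := Module.finitePresentation_of_finite R E
  obtain ⟨g, t, hg⟩ := Module.FinitePresentation.exists_lift_of_isLocalizedModule S (Algebra.linearMap R A)
    ((gP.restrictScalars R).comp lE)
  have hk : ∀ x : K, ∃ c ∉ P, c * (g x - (t : R) * f x) = 0 := by
    intro x
    have h1 : algebraMap R A (g x - (t : R) * f x) = 0 := by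
      have h2 := LinearMap.congr_fun hg (x : E)
      simp only [LinearMap.comp_apply, Algebra.linearMap_apply, LinearMap.smul_apply,
        LinearMap.restrictScalars_apply, Submonoid.smul_def] at h2
      rw [map_sub, h2, map_mul, show lE (x : E) = ((lK x : LinearMap.ker φP) : LocalizedModule S E) from rfl,
        hgP _ (lK x).2, hfP, Algebra.smul_def, sub_self]
    obtain ⟨⟨c, hc⟩, h3⟩ := (IsLocalization.map_eq_zero_iff S A _).mp h1
    exact ⟨c, hc, h3⟩
  haveI : Module.Finite R K := Module.Finite.iff_fg.mpr (IsNoetherian.noetherian K)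
  obtain ⟨G, hG⟩ := (Module.Finite.fg_top : (⊤ : Submodule R K).FG)
  choose c hc hc0 using hk
  have hmem : (∏ x ∈ G, c x) * (t : R) ∈ T := by
    refine ⟨(∏ x ∈ G, c x) • g, fun x hx => ?_⟩
    let ψ : K →ₗ[R] R := (∏ x ∈ G, c x) • (g.comp K.subtype - (t : R) • f)
    have : ψ = 0 := LinearMap.ext_on (s := (G : Set K)) (by rw [hG]) fun y hy => by
      obtain ⟨d, hd⟩ := Finset.dvd_prod_of_mem c hy
      simp only [ψ, LinearMap.smul_apply, LinearMap.sub_apply, LinearMap.comp_apply, Submodule.subtype_apply,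
        LinearMap.smul_apply, smul_eq_mul, LinearMap.zero_apply, hd]
      rw [mul_comm (c y) d, mul_assoc, hc0, mul_zero]
    have h := LinearMap.congr_fun this ⟨x, hx⟩
    simp only [ψ, LinearMap.smul_apply, LinearMap.sub_apply, LinearMap.comp_apply, Submodule.subtype_apply,
      smul_eq_mul, LinearMap.zero_apply, mul_sub, sub_eq_zero] at h
    simpa [mul_assoc] using h
  rcases hP.isPrime.mem_or_mem (hle hmem) with h | h
  · obtain ⟨x, -, hx⟩ := Ideal.IsPrime.prod_mem_iff.mp h
    exact hc x hx
  · exact t.2 h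

/-- A torsionless finite module embeds in a free module of finite rank. -/
theorem exists_embedding [IsNoetherianRing R] (M : Type u) [AddCommGroup M] [Module R M] [Module.Finite R M]
    (h : Function.Injective (Module.Dual.eval R M)) :
    ∃ (n : ℕ) (ι : M →ₗ[R] (Fin n → R)), Function.Injective ι := by
  obtain ⟨n, q, hq⟩ := Module.Finite.exists_fin' R M
  haveI : Module.Finite R (M →ₗ[R] R) := Module.Finite.of_injective
    ({ toFun := fun φ => φ ∘ₗ q, map_add' := fun _ _ => rfl, map_smul' := fun _ _ => rfl } :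
      (M →ₗ[R] R) →ₗ[R] ((Fin n → R) →ₗ[R] R))
    fun a b hab => LinearMap.ext fun x => by
      obtain ⟨y, rfl⟩ := hq x
      exact LinearMap.congr_fun hab y
  obtain ⟨m, p, hp⟩ := Module.Finite.exists_fin' R (M →ₗ[R] R)
  refine ⟨m, LinearMap.pi fun i => p (Pi.single i 1), (injective_iff_map_eq_zero _).mpr fun x hx => h ?_⟩
  rw [map_zero]
  refine LinearMap.ext fun φ => ?_
  obtain ⟨v, rfl⟩ := hp φ
  have h1 : ∀ i, p (Pi.single i 1) x = 0 := fun i => congrFun hx i
  rw [Module.Dual.eval_apply, ← Finset.univ_sum_single v, map_sum, LinearMap.sum_apply, LinearMap.zero_apply]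
  refine Finset.sum_eq_zero fun i _ => ?_
  rw [show Pi.single i (v i) = v i • (Pi.single i 1 : Fin m → R) by rw [← Pi.single_smul', smul_eq_mul, mul_one],
    map_smul, LinearMap.smul_apply, h1, smul_zero]

/-- Torsionless modules are reflexive. -/
theorem isReflexive [LocCoh.IsGorensteinRing R] (hdim : ringKrullDim R ≤ 1)
    (M : Type u) [AddCommGroup M] [Module R M] [Module.Finite R M]
    (h : Function.Injective (Module.Dual.eval R M)) : Module.IsReflexive R M := by
  obtain ⟨n, ι, hι⟩ := exists_embedding M h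
  obtain ⟨r, q, hq⟩ := Module.Finite.exists_fin' R M
  refine ⟨⟨h, fun Φ => ?_⟩⟩
  let qd : Module.Dual R M →ₗ[R] Module.Dual R (Fin r → R) := q.dualMap
  have hqd : Function.Injective qd := LinearMap.dualMap_injective_of_surjective hq
  -- coordinates on the dual of the free module
  let c : Module.Dual R (Fin r → R) →ₗ[R] (Fin r → R) :=
    LinearMap.pi fun i => LinearMap.applyₗ (Pi.single i (1 : R))
  have hc : Function.Injective c := fun a b hab => LinearMap.pi_ext' fun i => LinearMap.ext_ring (by
    simp only [LinearMap.comp_apply, LinearMap.single_apply]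
    exact congrFun hab i)
  haveI : Module.Finite R (Module.Dual R (Fin r → R)) := Module.Finite.of_injective c hc
  haveI : Module.Finite R (LinearMap.ker q) := Module.Finite.iff_fg.mpr (IsNoetherian.noetherian _)
  -- the kernel of restriction to `ker q` is the image of the dual of `M`
  let ρ : Module.Dual R (Fin r → R) →ₗ[R] Module.Dual R (LinearMap.ker q) := (LinearMap.ker q).subtype.dualMap
  obtain ⟨s, gen, hgen⟩ := Module.Finite.exists_fin' R (LinearMap.ker q)
  let ψ : Module.Dual R (Fin r → R) →ₗ[R] (Fin s → R) :=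
    LinearMap.pi fun j => LinearMap.applyₗ ((gen (Pi.single j 1) : LinearMap.ker q) : Fin r → R)
  have hψ : LinearMap.ker ψ = LinearMap.range qd := by
    refine le_antisymm (fun a ha => ?_) ?_
    · have hρ : ∀ y : LinearMap.ker q, a (y : Fin r → R) = 0 := by
        intro y
        obtain ⟨v, rfl⟩ := hgen y
        rw [← Finset.univ_sum_single v, map_sum, AddSubmonoidClass.coe_finsetSum, map_sum]
        refine Finset.sum_eq_zero fun j _ => ?_
        rw [show Pi.single j (v j) = v j • (Pi.single j 1 : Fin s → R) by rw [← Pi.single_smul', smul_eq_mul, mul_one],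
          map_smul, Submodule.coe_smul, map_smul]
        rw [show a ((gen (Pi.single j 1) : LinearMap.ker q) : Fin r → R) = 0 from congrFun ha j, smul_zero]
      refine ⟨((LinearMap.ker q).liftQ a fun y hy => hρ ⟨y, hy⟩).comp
        (q.quotKerEquivOfSurjective hq).symm.toLinearMap, ?_⟩
      refine LinearMap.ext fun v => ?_
      have : (q.quotKerEquivOfSurjective hq).symm (q v) = Submodule.Quotient.mk v := by
        rw [LinearEquiv.symm_apply_eq]; rfl
      simp [qd, LinearMap.dualMap_apply, this] <;> rfl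
    · rintro _ ⟨b, rfl⟩
      refine LinearMap.mem_ker.mpr (funext fun j => ?_)
      show b (q ((gen (Pi.single j 1) : LinearMap.ker q) : Fin r → R)) = 0
      rw [show q ((gen (Pi.single j 1) : LinearMap.ker q) : Fin r → R) = 0 from
        (gen (Pi.single j 1) : LinearMap.ker q).2, map_zero]
  let e : LinearMap.ker ψ →ₗ[R] R :=
    (Φ.comp (LinearEquiv.ofInjective qd hqd).symm.toLinearMap).comp (LinearEquiv.ofEq _ _ hψ).toLinearMap
  obtain ⟨G, hG⟩ := exists_extend hdim ψ e
  refine ⟨q (fun i => G (LinearMap.proj i)), LinearMap.ext fun b => ?_⟩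
  have hb : qd b ∈ LinearMap.ker ψ := hψ ▸ ⟨b, rfl⟩
  have h1 : e ⟨qd b, hb⟩ = Φ b := by
    simp only [e, LinearMap.comp_apply]
    congr 1
    rw [LinearEquiv.coe_coe, LinearEquiv.symm_apply_eq]
    rfl
  rw [Module.Dual.eval_apply, ← h1, ← hG (qd b) hb]
  have h2 : qd b = ∑ i, b (q (Pi.single i 1)) • (LinearMap.proj i : Module.Dual R (Fin r → R)) := by
    refine LinearMap.pi_ext' fun j => LinearMap.ext_ring ?_
    simp [qd, LinearMap.dualMap_apply, Pi.single_apply]
  rw [h2, map_sum]
  conv_lhs => rw [← Finset.univ_sum_single (fun i => G (LinearMap.proj i : Module.Dual R (Fin r → R)))]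
  rw [map_sum, map_sum]
  refine Finset.sum_congr rfl fun i _ => ?_
  rw [map_smul, show Pi.single i (G (LinearMap.proj i)) = G (LinearMap.proj i) • (Pi.single i 1 : Fin r → R) by
    rw [← Pi.single_smul', smul_eq_mul, mul_one], map_smul, map_smul, smul_eq_mul, smul_eq_mul, mul_comm]

end Groth.Agent.CAlg99.Torsionless
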