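import Mathlib.RingTheory.WittVector.Defs
import Mathlib.RingTheory.WittVector.StructurePolynomial
import Mathlib.RingTheory.MvPolynomial.WeightedHomogeneous

/-! Weighted homogeneity of the Witt structure polynomials, and evaluation of weighted homogeneous
polynomials at a multiplicative family of submodules. -/

namespace Groth.Agent.CAlg99.WittHom

open MvPolynomial

variable {σ τ : Type*} {R : Type*} [CommRing R]

theorem bind₁_isWeightedHomogeneous {wσ : σ → ℕ} {wτ : τ → ℕ} {d e : ℕ} {Φ : MvPolynomial σ R}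
    (hΦ : IsWeightedHomogeneous wσ Φ d) (g : σ → MvPolynomial τ R)
    (hg : ∀ b, IsWeightedHomogeneous wτ (g b) (wσ b * e)) :
    IsWeightedHomogeneous wτ (bind₁ g Φ) (d * e) := by
  rw [as_sum Φ, map_sum]
  refine IsWeightedHomogeneous.sum _ _ _ fun m hm => ?_
  have hmd : Finsupp.weight wσ m = d := hΦ (mem_support_iff.mp hm)
  have h0 := isWeightedHomogeneous_C wτ (coeff m Φ)
  have h1 := IsWeightedHomogeneous.prod m.support (fun b => g b ^ m b) (fun b => m b * (wσ b * e))
    (w := wτ) (fun b _ => by simpa using (hg b).pow (m b))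
  have h2 := h0.mul h1
  have heq : ∑ b ∈ m.support, m b * (wσ b * e) = d * e := by
    rw [← hmd, Finsupp.weight_apply, Finsupp.sum, Finset.sum_mul]
    exact Finset.sum_congr rfl fun b _ => by rw [smul_eq_mul, mul_assoc]
  rw [zero_add, heq] at h2
  rw [bind₁_monomial]
  exact h2

variable (p : ℕ) {idx : Type*}

theorem rename_wittPolynomial_isWeightedHomogeneous (R : Type*) [CommRing R] (a : idx → ℕ) (b : idx)
    (n : ℕ) :
    IsWeightedHomogeneous (fun i : idx × ℕ => a i.1 * p ^ i.2)
      (rename (fun i => (b, i)) (wittPolynomial p R n)) (a b * p ^ n) := by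
  rw [wittPolynomial_eq_sum_C_mul_X_pow, map_sum]
  refine IsWeightedHomogeneous.sum _ _ _ fun i hi => ?_
  simp only [map_mul, map_pow, rename_C, rename_X]
  have h := (isWeightedHomogeneous_C (fun i : idx × ℕ => a i.1 * p ^ i.2) ((p : R) ^ i)).mul
    ((isWeightedHomogeneous_X R (fun i : idx × ℕ => a i.1 * p ^ i.2) (b, i)).pow (p ^ (n - i)))
  rw [Finset.mem_range] at hi
  rw [zero_add, smul_eq_mul, mul_left_comm, ← pow_add, show n - i + i = n by omega] at h
  rwa [map_pow] at h

theorem wittStructureRat_isWeightedHomogeneous [Fact p.Prime] (Φ : MvPolynomial idx ℚ) (a : idx → ℕ)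
    (d : ℕ) (hΦ : IsWeightedHomogeneous a Φ d) (n : ℕ) :
    IsWeightedHomogeneous (fun i : idx × ℕ => a i.1 * p ^ i.2) (wittStructureRat p Φ n) (d * p ^ n) := by
  induction n using Nat.strongRecOn with
  | ind n ih =>
    rw [wittStructureRat_rec]
    have h1 := bind₁_isWeightedHomogeneous hΦ
      (fun b => rename (fun i => (b, i)) (wittPolynomial p ℚ n))
      (fun b => rename_wittPolynomial_isWeightedHomogeneous p ℚ a b n)
    have h2 : IsWeightedHomogeneous (fun i : idx × ℕ => a i.1 * p ^ i.2)
        (∑ i ∈ Finset.range n, C ((p : ℚ) ^ i) * wittStructureRat p Φ i ^ p ^ (n - i)) (d * p ^ n) := by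
      refine IsWeightedHomogeneous.sum _ _ _ fun i hi => ?_
      rw [Finset.mem_range] at hi
      have h := (isWeightedHomogeneous_C (fun i : idx × ℕ => a i.1 * p ^ i.2) ((p : ℚ) ^ i)).mul
        ((ih i hi).pow (p ^ (n - i)))
      rw [zero_add, smul_eq_mul, mul_left_comm, ← pow_add, show n - i + i = n by omega] at h
      exact h
    have h3 : IsWeightedHomogeneous (fun i : idx × ℕ => a i.1 * p ^ i.2)
        (bind₁ (fun b => rename (fun i => (b, i)) (wittPolynomial p ℚ n)) Φ -
          ∑ i ∈ Finset.range n, C ((p : ℚ) ^ i) * wittStructureRat p Φ i ^ p ^ (n - i)) (d * p ^ n) :=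
      (weightedHomogeneousSubmodule ℚ _ _).sub_mem h1 h2
    have h4 := (isWeightedHomogeneous_C (fun i : idx × ℕ => a i.1 * p ^ i.2) (1 / (p : ℚ) ^ n)).mul h3
    rwa [zero_add] at h4

theorem wittStructureInt_isWeightedHomogeneous [Fact p.Prime] (Φ : MvPolynomial idx ℤ) (a : idx → ℕ)
    (d : ℕ) (hΦ : IsWeightedHomogeneous a Φ d) (n : ℕ) :
    IsWeightedHomogeneous (fun i : idx × ℕ => a i.1 * p ^ i.2) (wittStructureInt p Φ n) (d * p ^ n) := by
  intro m hm
  have hΦ' : IsWeightedHomogeneous a (map (Int.castRingHom ℚ) Φ) d := by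
    intro k hk
    exact hΦ (fun h => hk (by rw [coeff_map, h, map_zero]))
  refine wittStructureRat_isWeightedHomogeneous p _ a d hΦ' n ?_
  rw [← map_wittStructureInt, coeff_map]
  simpa using hm

/-- Evaluation of a weighted homogeneous integral polynomial at a multiplicative family. -/
theorem aeval_mem_of_isWeightedHomogeneous {A K : Type*} [CommRing A] [CommRing K] [Algebra A K]
    (M : ℕ → Submodule A K) (h1 : (1 : K) ∈ M 0)
    (hmul : ∀ (i j : ℕ) (a b : K), a ∈ M i → b ∈ M j → a * b ∈ M (i + j))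
    {w : σ → ℕ} {P : MvPolynomial σ ℤ} {N : ℕ} (hP : IsWeightedHomogeneous w P N)
    (v : σ → K) (hv : ∀ i, v i ∈ M (w i)) : aeval v P ∈ M N := by
  classical
  rw [as_sum P, map_sum]
  refine Submodule.sum_mem _ fun m hm => ?_
  rw [aeval_monomial, ← Algebra.smul_def, ← hP (mem_support_iff.mp hm)]
  refine Submodule.smul_of_tower_mem _ _ ?_
  have hpow : ∀ i k, v i ^ k ∈ M (k * w i) := by
    intro i k
    induction k with
    | zero => simpa using h1
    | succ k ih => rw [pow_succ, Nat.succ_mul]; exact hmul _ _ _ _ ih (hv i)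
  rw [Finsupp.weight_apply, Finsupp.prod, Finsupp.sum]
  induction m.support using Finset.induction with
  | empty => simpa using h1
  | insert i s his ih =>
    rw [Finset.prod_insert his, Finset.sum_insert his]
    exact hmul _ _ _ _ (hpow i _) ih

end Groth.Agent.CAlg99.WittHom
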