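import Mathlib.RingTheory.WittVector.InitTail
import Mathlib.RingTheory.WittVector.Identities
import Mathlib.RingTheory.WittVector.Teichmuller

/-! Sums of Witt vectors: disjoint supports, triangularity, decomposition along spanning families. -/

namespace Groth.Agent.CAlg99.WittSum

open WittVector Finset

variable {p : ℕ} [hp : Fact p.Prime] {R : Type*} [CommRing R]

theorem coeff_sum_of_disjoint {ι : Type*} (s : Finset ι) (x : ι → WittVector p R)
    (h : ∀ n, ∀ i ∈ s, ∀ j ∈ s, i ≠ j → (x i).coeff n = 0 ∨ (x j).coeff n = 0) (n : ℕ) :
    (∑ i ∈ s, x i).coeff n = ∑ i ∈ s, (x i).coeff n := by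
  classical
  induction s using Finset.induction generalizing n with
  | empty => simp
  | insert a s ha ih =>
    have hs : ∀ n, ∀ i ∈ s, ∀ j ∈ s, i ≠ j → (x i).coeff n = 0 ∨ (x j).coeff n = 0 :=
      fun n i hi j hj => h n i (mem_insert_of_mem hi) j (mem_insert_of_mem hj)
    rw [sum_insert ha, sum_insert ha, WittVector.coeff_add_of_disjoint, ih hs]
    intro m
    rw [ih hs]
    by_cases hm : (x a).coeff m = 0
    · exact Or.inl hm
    · refine Or.inr (sum_eq_zero fun j hj => ?_)
      exact (h m a (mem_insert_self a s) j (mem_insert_of_mem hj)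
        (fun e => ha (e ▸ hj))).resolve_left hm

theorem tail_eq (n : ℕ) (x : WittVector p R) :
    tail n x = (⇑(verschiebung : WittVector p R →+ WittVector p R))^[n] (mk p fun k => x.coeff (k + n)) := by
  ext j
  by_cases h : j < n
  · rw [WittVector.iterate_verschiebung_coeff_eq_zero _ h]
    simp [tail, select, WittVector.coeff_mk, not_le.mpr h]
  · obtain ⟨k, rfl⟩ := Nat.exists_eq_add_of_le' (not_lt.mp h)
    rw [WittVector.iterate_verschiebung_coeff]
    simp [tail, select, WittVector.coeff_mk]

theorem coeff_init_of_lt {n j : ℕ} (h : j < n) (x : WittVector p R) : (init n x).coeff j = x.coeff j := by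
  simp [init, select, WittVector.coeff_mk, h]

theorem coeff_init_of_le {n j : ℕ} (h : n ≤ j) (x : WittVector p R) : (init n x).coeff j = 0 := by
  simp [init, select, WittVector.coeff_mk, not_lt.mpr h]

theorem coeff_add_iterate_verschiebung (n : ℕ) (X Y : WittVector p R) :
    (X + (⇑(verschiebung : WittVector p R →+ WittVector p R))^[n] Y).coeff n =
      X.coeff n + Y.coeff 0 := by
  have h : X + (⇑(verschiebung : WittVector p R →+ WittVector p R))^[n] Y =
      init n X + (⇑(verschiebung : WittVector p R →+ WittVector p R))^[n]
        ((mk p fun k => X.coeff (k + n)) + Y) := by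
    conv_lhs => rw [← init_add_tail X n, tail_eq, add_assoc, ← iterate_map_add]
  rw [h, WittVector.coeff_add_of_disjoint, coeff_init_of_le le_rfl, zero_add]
  · have hh := WittVector.iterate_verschiebung_coeff ((mk p fun k => X.coeff (k + n)) + Y) n 0
    rw [Nat.zero_add] at hh
    rw [hh, WittVector.add_coeff_zero, WittVector.coeff_mk, Nat.zero_add]
  · intro j
    rcases lt_or_ge j n with hj | hj
    · exact Or.inr (WittVector.iterate_verschiebung_coeff_eq_zero _ hj)
    · exact Or.inl (coeff_init_of_le hj X)

theorem coeff_sum_eq_init {ι : Type*} (s : Finset ι) (x : ι → WittVector p R) (n : ℕ) :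
    (∑ i ∈ s, x i).coeff n = (∑ i ∈ s, init n (x i)).coeff n + ∑ i ∈ s, (x i).coeff n := by
  have h : ∑ i ∈ s, x i = ∑ i ∈ s, init n (x i) +
      (⇑(verschiebung : WittVector p R →+ WittVector p R))^[n] (∑ i ∈ s, mk p fun k => (x i).coeff (k + n)) := by
    have hV : ∀ y : ι → WittVector p R,
        (⇑(verschiebung : WittVector p R →+ WittVector p R))^[n] (∑ i ∈ s, y i) =
          ∑ i ∈ s, (⇑(verschiebung : WittVector p R →+ WittVector p R))^[n] (y i) := fun y => by
      induction n with
      | zero => rfl
      | succ n ih => simp only [Function.iterate_succ_apply', ih, map_sum]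
    rw [hV, ← sum_add_distrib]
    exact sum_congr rfl fun i _ => by rw [← tail_eq, init_add_tail]
  rw [h, coeff_add_iterate_verschiebung]
  congr 1
  rw [← WittVector.constantCoeff_apply, map_sum]
  exact sum_congr rfl fun i _ => by rw [WittVector.constantCoeff_apply, WittVector.coeff_mk, Nat.zero_add]

/-- Every Witt vector is a sum of vectors with coefficients in the lines `A yᵢ`. -/
theorem exists_decomp {A : Type*} [CommRing A] [Algebra A R] {ι : Type*} [Fintype ι] (y : ι → R)
    (hy : Submodule.span A (Set.range y) = ⊤) (η : WittVector p R) :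
    ∃ α : ℕ → ι → A, η = ∑ i, mk p fun n => α n i • y i := by
  classical
  choose c hc using fun b : R => (Submodule.mem_span_range_iff_exists_fun A).mp
    (hy ▸ Submodule.mem_top : b ∈ Submodule.span A (Set.range y))
  let F : ℕ → ℕ → ι → A := fun n => Nat.rec 0
    (fun n f => Function.update f n (c (η.coeff n - (∑ i, mk p fun k => f k i • y i).coeff n))) n
  have hF0 : ∀ n m, n ≤ m → F n m = 0 := by
    intro n
    induction n with
    | zero => intro m _; rfl
    | succ n ih =>
      intro m hm
      show Function.update (F n) n _ m = 0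
      rw [Function.update_of_ne (by omega), ih m (by omega)]
  let α : ℕ → ι → A := fun n => F (n + 1) n
  have hFα : ∀ n m, m < n → F n m = α m := by
    intro n
    induction n with
    | zero => intro m hm; omega
    | succ n ih =>
      intro m hm
      rcases Nat.lt_or_ge m n with h | h
      · show Function.update (F n) n _ m = α m
        rw [Function.update_of_ne h.ne, ih m h]
      · obtain rfl : m = n := by omega
        rfl
  refine ⟨α, WittVector.ext fun n => ?_⟩
  rw [coeff_sum_eq_init]
  have hinit : ∀ i, init n (mk p fun k => α k i • y i) = mk p fun k => F n k i • y i := by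
    intro i
    ext k
    rcases Nat.lt_or_ge k n with h | h
    · rw [coeff_init_of_lt h, WittVector.coeff_mk, WittVector.coeff_mk, hFα n k h]
    · rw [coeff_init_of_le h, WittVector.coeff_mk, hF0 n k h, Pi.zero_apply, zero_smul]
  simp only [hinit, WittVector.coeff_mk]
  have hα : α n = c (η.coeff n - (∑ i, mk p fun k => F n k i • y i).coeff n) := by
    show Function.update (F n) n _ n = _
    rw [Function.update_self]
  rw [hα, hc, add_sub_cancel]

end Groth.Agent.CAlg99.WittSum
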